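import Mathlib
import Groth.Prelude.Def_FlatCA

/-!
# Plumbing for geometric neighbourhoods: residue fields, localisations, fibres
-/

set_option autoImplicit false
set_option linter.style.haveILetI false
set_option linter.unusedSectionVars false

universe u

open TensorProduct AlgebraicGeometry CategoryTheory CategoryTheory.Limits

namespace GrothLib.RG6.Geom

/-- A hom to the residue field of the base splitting the structure map gives a trivial residue extension. -/
theorem bijective_residue_of_hom {A B : Type u} [CommRing A] [CommRing B] [Algebra A B] (P : Ideal A) [P.IsPrime]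
    (Q : Ideal B) [Q.IsPrime] (g : B →+* P.ResidueField) (hg : g.comp (algebraMap A B) = algebraMap A P.ResidueField)
    (hQ : RingHom.ker g = Q) :
    ∃ h : Q.LiesOver P, Function.Bijective (Ideal.ResidueField.mapₐ P Q (Algebra.ofId A B) h.over) := by
  have h : Q.LiesOver P := ⟨by
    ext x
    rw [← Ideal.algebraMap_residueField_eq_zero, ← hg, Ideal.under, Ideal.mem_comap, ← hQ, RingHom.mem_ker]
    rfl⟩
  refine ⟨h, RingHom.injective (Ideal.ResidueField.mapₐ P Q (Algebra.ofId A B) h.over).toRingHom, fun z => ?_⟩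
  let l : Q.ResidueField →+* P.ResidueField := Ideal.ResidueField.lift Q g hQ.ge
    fun b hb => isUnit_iff_ne_zero.2 fun hb0 => hb (hQ ▸ RingHom.mem_ker.2 hb0)
  have hid : l.comp (Ideal.ResidueField.mapₐ P Q (Algebra.ofId A B) h.over).toRingHom = RingHom.id _ := by
    refine Ideal.ResidueField.ringHom_ext (RingHom.ext fun a => ?_)
    show l (Ideal.ResidueField.mapₐ P Q (Algebra.ofId A B) h.over (algebraMap A P.ResidueField a)) = algebraMap A P.ResidueField a
    rw [AlgHom.commutes, IsScalarTower.algebraMap_apply A B Q.ResidueField, ← hg]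
    exact Ideal.ResidueField.lift_algebraMap _ _ _ _ _
  exact ⟨l z, l.injective (RingHom.congr_fun hid (l z))⟩

/-- The `R₀`-tensor with a localisation is a domain when the localised `R`-tensor is one. -/
theorem isDomain_tensor_of_localization {R R₀ D D₁ L : Type u} [CommRing R] [CommRing R₀] [CommRing D] [CommRing D₁]
    [Field L] [Algebra R R₀] [Algebra R D] [Algebra R D₁] [Algebra R₀ D₁] [Algebra D D₁] [IsScalarTower R R₀ D₁]
    [IsScalarTower R D D₁] [Algebra R L] [Algebra R₀ L] [IsScalarTower R R₀ L] (g : R) [IsLocalization.Away g R₀]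
    (d : D) [IsLocalization.Away d D₁] [IsDomain (Localization.Away ((1 : L) ⊗ₜ[R] d))] :
    IsDomain (L ⊗[R₀] D₁) := by
  let Fa := Localization.Away ((1 : L) ⊗ₜ[R] d)
  let a : L →+* Fa := (algebraMap (L ⊗[R] D) Fa).comp Algebra.TensorProduct.includeLeftRingHom
  let b : D →+* Fa := (algebraMap (L ⊗[R] D) Fa).comp (Algebra.TensorProduct.includeRight (R := R) (A := L) (B := D)).toRingHom
  have hu : IsUnit (b d) := IsLocalization.Away.algebraMap_isUnit (S := Fa) ((1 : L) ⊗ₜ[R] d)
  let b₁ : D₁ →+* Fa := IsLocalization.Away.lift d hu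
  have hab : b₁.comp (algebraMap R₀ D₁) = a.comp (algebraMap R₀ L) := by
    refine IsLocalization.ringHom_ext (Submonoid.powers g) (RingHom.ext fun r => ?_)
    show b₁ (algebraMap R₀ D₁ (algebraMap R R₀ r)) = a (algebraMap R₀ L (algebraMap R R₀ r))
    rw [← IsScalarTower.algebraMap_apply, ← IsScalarTower.algebraMap_apply, IsScalarTower.algebraMap_apply R D D₁,
      IsLocalization.Away.lift_eq]
    show algebraMap (L ⊗[R] D) Fa ((1 : L) ⊗ₜ algebraMap R D r) = algebraMap (L ⊗[R] D) Fa (algebraMap R L r ⊗ₜ 1)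
    rw [show algebraMap R L r ⊗ₜ[R] (1 : D) = algebraMap R (L ⊗[R] D) r from rfl,
      show (1 : L) ⊗ₜ[R] algebraMap R D r =
        (Algebra.TensorProduct.includeRight : D →ₐ[R] L ⊗[R] D) (algebraMap R D r) from rfl, AlgHom.commutes]
  let θ : L ⊗[R₀] D₁ →ₐ[R₀] Fa := Algebra.TensorProduct.lift
    ({ a with commutes' := fun r => (IsScalarTower.algebraMap_apply R₀ (L ⊗[R] D) Fa r).symm } : L →ₐ[R₀] Fa)
    ({ b₁ with commutes' := fun r => (RingHom.congr_fun hab r).trans (IsScalarTower.algebraMap_apply R₀ (L ⊗[R] D) Fa r).symm } : D₁ →ₐ[R₀] Fa) fun _ _ => Commute.all _ _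
  let ψ₀ : L ⊗[R] D →ₐ[R] L ⊗[R₀] D₁ := Algebra.TensorProduct.lift
    ((Algebra.TensorProduct.includeLeft : L →ₐ[R₀] L ⊗[R₀] D₁).restrictScalars R)
    (((Algebra.TensorProduct.includeRight : D₁ →ₐ[R₀] L ⊗[R₀] D₁).restrictScalars R).comp (IsScalarTower.toAlgHom R D D₁))
    fun _ _ => Commute.all _ _
  have hu' : IsUnit (ψ₀.toRingHom ((1 : L) ⊗ₜ[R] d)) := by
    have : ψ₀.toRingHom ((1 : L) ⊗ₜ[R] d) =
        (Algebra.TensorProduct.includeRight : D₁ →ₐ[R₀] L ⊗[R₀] D₁) (algebraMap D D₁ d) := by
      simp [ψ₀]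
    rw [this]
    exact (IsLocalization.Away.algebraMap_isUnit d).map _
  let ψ : Fa →+* L ⊗[R₀] D₁ := IsLocalization.Away.lift _ hu'
  have hid : ψ.comp θ.toRingHom = RingHom.id _ := by
    refine Algebra.TensorProduct.ringHom_ext (RingHom.ext fun l => ?_) (IsLocalization.ringHom_ext (Submonoid.powers d) (RingHom.ext fun x => ?_))
    · show ψ (θ (l ⊗ₜ 1)) = l ⊗ₜ 1
      simp only [θ, Algebra.TensorProduct.lift_tmul, map_one, mul_one]
      show ψ (algebraMap (L ⊗[R] D) Fa (l ⊗ₜ 1)) = _
      rw [IsLocalization.Away.lift_eq]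
      simp [ψ₀]
    · show ψ (θ (1 ⊗ₜ algebraMap D D₁ x)) = 1 ⊗ₜ algebraMap D D₁ x
      simp only [θ, Algebra.TensorProduct.lift_tmul, map_one, one_mul]
      show ψ (b₁ (algebraMap D D₁ x)) = _
      rw [IsLocalization.Away.lift_eq]
      show ψ (algebraMap (L ⊗[R] D) Fa ((1 : L) ⊗ₜ x)) = _
      rw [IsLocalization.Away.lift_eq]
      simp [ψ₀]
  exact Function.Injective.isDomain θ.toRingHom (Function.LeftInverse.injective (g := ψ) fun x => RingHom.congr_fun hid x)

/-- Relative dimension is inherited by an open piece over an open piece of the base. -/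
theorem smoothRelDim_of_localization {R R₀ D D₁ : Type u} [CommRing R] [CommRing R₀] [CommRing D] [CommRing D₁]
    [Algebra R R₀] [Algebra R D] [Algebra R D₁] [Algebra R₀ D₁] [Algebra D D₁] [IsScalarTower R R₀ D₁]
    [IsScalarTower R D D₁] (g : R) [IsLocalization.Away g R₀] (d : D) [IsLocalization.Away d D₁] (n : ℕ)
    (h : FlatCA.SmoothRelDim n R D) : FlatCA.SmoothRelDim n R₀ D₁ := by
  let f := Spec.map (CommRingCat.ofHom (algebraMap R₀ D₁))
  let j := Spec.map (CommRingCat.ofHom (algebraMap R R₀))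
  haveI : IsOpenImmersion j := IsOpenImmersion.of_isLocalization g
  haveI : IsOpenImmersion (Spec.map (CommRingCat.ofHom (algebraMap D D₁))) := IsOpenImmersion.of_isLocalization d
  haveI := h
  have hcomp : SmoothOfRelativeDimension n (f ≫ j) := by
    have e : f ≫ j = Spec.map (CommRingCat.ofHom (algebraMap D D₁)) ≫ Spec.map (CommRingCat.ofHom (algebraMap R D)) := by
      rw [← Spec.map_comp, ← Spec.map_comp, ← CommRingCat.ofHom_comp, ← CommRingCat.ofHom_comp,
        ← IsScalarTower.algebraMap_eq, ← IsScalarTower.algebraMap_eq]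
    rw [e]
    have h0 := smoothOfRelativeDimension_comp 0 n (Spec.map (CommRingCat.ofHom (algebraMap D D₁)))
      (Spec.map (CommRingCat.ofHom (algebraMap R D)))
    rwa [zero_add] at h0
  have h1 : IsPullback (𝟙 _) f f (𝟙 _) := IsPullback.of_horiz_isIso ⟨by simp⟩
  have h2 : IsPullback (𝟙 _) (𝟙 _) j j := IsKernelPair.id_of_mono j
  have h3 : IsPullback (𝟙 _) (f ≫ 𝟙 _) (f ≫ j) j := h1.paste_vert h2
  have := (smoothOfRelativeDimension_isStableUnderBaseChange n).of_isPullback h3 hcomp
  rwa [Category.comp_id] at this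

/-- Relative dimension under base change. -/
theorem smoothRelDim_baseChange {R : Type u} [CommRing R] (R' D : Type u) [CommRing R'] [CommRing D]
    [Algebra R R'] [Algebra R D] (n : ℕ) (h : FlatCA.SmoothRelDim n R D) :
    FlatCA.SmoothRelDim n R' (R' ⊗[R] D) :=
  (smoothOfRelativeDimension_isStableUnderBaseChange n).of_isPullback
    (isPullback_SpecMap_of_isPushout _ _ _ _ (CommRingCat.isPushout_tensorProduct R R' D)).flip h

/-- Smoothness from relative dimension. -/
theorem smooth_of_smoothRelDim {R D : Type u} [CommRing R] [CommRing D] [Algebra R D] {n : ℕ}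
    (h : FlatCA.SmoothRelDim n R D) : Algebra.Smooth R D := by
  haveI := h
  have h1 := SmoothOfRelativeDimension.smooth n (Spec.map (CommRingCat.ofHom (algebraMap R D)))
  rw [HasRingHomProperty.Spec_iff (P := @Smooth)] at h1
  exact RingHom.smooth_algebraMap.mp h1

/-- Geometric integrality of the fibres read on rings. -/
theorem geomIntegralFibres_of_isDomain {R D : Type u} [CommRing R] [CommRing D] [Algebra R D]
    (h : ∀ (K : Type u) [Field K] [Algebra R K], IsDomain (K ⊗[R] D)) : FlatCA.GeomIntegralFibres R D := by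
  refine ⟨geometrically_iff_of_commRing.2 fun K _ _ Y fst snd hY => ?_⟩
  have h1 := (isPullback_SpecMap_of_isPushout _ _ _ _ (CommRingCat.isPushout_tensorProduct R K D)).flip
  haveI := h K
  haveI : IsIntegral (Spec (CommRingCat.of (K ⊗[R] D))) := inferInstance
  haveI : Nonempty Y := ⟨(hY.isoIsPullback _ _ h1).inv (Classical.arbitrary _)⟩
  exact isIntegral_of_isOpenImmersion (hY.isoIsPullback _ _ h1).hom

end GrothLib.RG6.Geom

namespace GrothLib.RG6.Geom

/-- An étale neighbourhood of a point of a principal open is one of the point. -/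
theorem isEtaleNhd_of_localization {A A₀ B : Type u} [CommRing A] [CommRing A₀] [CommRing B] [Algebra A A₀]
    [Algebra A₀ B] [Algebra A B] [IsScalarTower A A₀ B] (g : A) [IsLocalization.Away g A₀] {p : Ideal A} [p.IsPrime]
    {p₀ : Ideal A₀} [p₀.IsPrime] (hp : p₀.comap (algebraMap A A₀) = p) {p' : Ideal B} [p'.IsPrime]
    (h : FlatCA.IsEtaleNhd A₀ B p₀ p') : FlatCA.IsEtaleNhd A B p p' := by
  obtain ⟨het, hover, hbij⟩ := h
  haveI : Algebra.Etale A A₀ := Algebra.Etale.of_isLocalizationAway g
  haveI := het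
  refine ⟨Algebra.Etale.comp A A₀ B, ?_⟩
  let m := Ideal.ResidueField.mapₐ p₀ p' (Algebra.ofId A₀ B) hover.over
  let m₀ := Ideal.ResidueField.mapₐ p p₀ (Algebra.ofId A A₀) hp.symm
  have hgp : g ∉ p := fun hg => ‹p₀.IsPrime›.ne_top
    (Ideal.eq_top_of_isUnit_mem _ (hp.ge hg) (IsLocalization.Away.algebraMap_isUnit g))
  have hu : IsUnit (algebraMap A p.ResidueField g) := isUnit_iff_ne_zero.2 (Ideal.algebraMap_residueField_eq_zero.not.2 hgp)
  let l : A₀ →+* p.ResidueField := IsLocalization.Away.lift g hu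
  have hl : m₀.toRingHom.comp l = algebraMap A₀ p₀.ResidueField :=
    IsLocalization.ringHom_ext (Submonoid.powers g) (RingHom.ext fun a => by
      show m₀ (l (algebraMap A A₀ a)) = algebraMap A₀ _ (algebraMap A A₀ a)
      rw [IsLocalization.Away.lift_eq, AlgHom.commutes, ← IsScalarTower.algebraMap_apply])
  have hker : RingHom.ker l = p₀ := by
    ext a
    rw [RingHom.mem_ker, ← map_eq_zero_iff _ m₀.toRingHom.injective,
      show m₀.toRingHom (l a) = algebraMap A₀ p₀.ResidueField a from RingHom.congr_fun hl a]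
    exact Ideal.algebraMap_residueField_eq_zero
  obtain ⟨_, hb₀⟩ := bijective_residue_of_hom p p₀ l (IsLocalization.Away.lift_comp g hu) hker
  let rb := RingEquiv.ofBijective m₀.toRingHom hb₀
  let rb' := RingEquiv.ofBijective m.toRingHom hbij
  refine bijective_residue_of_hom p p' ((rb.trans rb').symm.toRingHom.comp (algebraMap B p'.ResidueField)) ?_ ?_
  · ext a
    show (rb.trans rb').symm (algebraMap B p'.ResidueField (algebraMap A B a)) = _
    rw [RingEquiv.symm_apply_eq]
    show _ = m (m₀ (algebraMap A p.ResidueField a))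
    rw [AlgHom.commutes, IsScalarTower.algebraMap_apply A A₀ p₀.ResidueField, AlgHom.commutes,
      IsScalarTower.algebraMap_apply A A₀ B, ← IsScalarTower.algebraMap_apply A₀ B p'.ResidueField]
  · ext b
    rw [RingHom.mem_ker]
    show (rb.trans rb').symm (algebraMap B p'.ResidueField b) = 0 ↔ _
    rw [EmbeddingLike.map_eq_zero_iff]
    exact Ideal.algebraMap_residueField_eq_zero

end GrothLib.RG6.Geom
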