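import Mathlib
import Groth.Prelude.Def_FlatCA
import Groth.Agent.Lib.SecLocus.Connected
import Groth.Agent.Lib.LocNoeth.Space
import Groth.Agent.S2150
import Groth.Agent.S9629

/-!
# Geometric integrality over a field through a point with separably closed residue extension
-/

set_option autoImplicit false
set_option linter.style.haveILetI false
set_option linter.unusedSectionVars false

universe u

open TensorProduct

namespace GrothLib.RG6.Geom

/-- In a smooth algebra over a field an open piece inside a connected component is a domain. -/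
theorem isDomain_away_of_component (k F : Type u) [Field k] [CommRing F] [Algebra k F] [Algebra.Smooth k F] (a : F)
    (x : PrimeSpectrum F) (hx : a ∉ x.asIdeal)
    (h : ∀ z : PrimeSpectrum F, a ∉ z.asIdeal → z ∈ connectedComponent x) :
    IsDomain (Localization.Away a) := by
  haveI : IsNoetherianRing F := Algebra.FiniteType.isNoetherianRing k F
  -- the component is cut by an idempotent
  have hopen : IsOpen (connectedComponent x) :=
    (GrothLib.LocNoeth.isLocNoeth (AlgebraicGeometry.Spec (CommRingCat.of F))).isOpen_connectedComponent x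
  obtain ⟨e, he, hee⟩ := PrimeSpectrum.isClopen_iff.1 ⟨isClosed_connectedComponent, hopen⟩
  let Fe := Localization.Away e
  haveI : ConnectedSpace (PrimeSpectrum Fe) := by
    refine (PrimeSpectrum.localization_away_isOpenEmbedding Fe e).isEmbedding.toHomeomorph.connectedSpace_iff.2 ?_
    rw [← isConnected_iff_connectedSpace, PrimeSpectrum.localization_away_comap_range Fe e]
    exact hee ▸ isConnected_connectedComponent
  haveI : Algebra.Smooth F Fe := Algebra.Smooth.of_isLocalization_Away e
  haveI : Algebra.Smooth k Fe := Algebra.Smooth.comp k F Fe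
  haveI : IsDomain Fe := GrothLib.SecLocus.isDomain_of_smooth_connected k Fe
  -- `F_a` is a localisation of `F_e`
  have hunit : IsUnit (algebraMap F (Localization.Away a) e) := by
    by_contra hne
    obtain ⟨M, hM, hMe⟩ := exists_max_ideal_of_mem_nonunits hne
    haveI := hM
    let z : PrimeSpectrum F := PrimeSpectrum.comap (algebraMap F (Localization.Away a)) ⟨M, inferInstance⟩
    have hza : a ∉ z.asIdeal := fun ha => hM.ne_top (Ideal.eq_top_of_isUnit_mem _ ha (IsLocalization.Away.algebraMap_isUnit a))
    have hz := h z hza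
    rw [hee] at hz
    exact hz hMe
  letI : Algebra Fe (Localization.Away a) := (IsLocalization.Away.lift e hunit).toAlgebra
  haveI : IsScalarTower F Fe (Localization.Away a) :=
    IsScalarTower.of_algebraMap_eq fun b => (IsLocalization.Away.lift_eq e hunit b).symm
  haveI : IsLocalization.Away (algebraMap F (Localization.Away a) e) (Localization.Away a) :=
    IsLocalization.away_of_isUnit_of_bijective _ hunit Function.bijective_id
  haveI : IsLocalization.Away (algebraMap F Fe a) (Localization.Away a) :=
    IsLocalization.Away.commutes Fe (Localization.Away a) (Localization.Away a) e a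
  have ha0 : algebraMap F Fe a ≠ 0 := by
    intro h0
    have hxe : e ∉ x.asIdeal := by
      have := mem_connectedComponent (x := x)
      rw [hee] at this
      exact this
    have hxr : x ∈ Set.range (PrimeSpectrum.comap (algebraMap F Fe)) := by
      rw [PrimeSpectrum.localization_away_comap_range Fe e]; exact hxe
    obtain ⟨x', rfl⟩ := hxr
    exact hx (show algebraMap F Fe a ∈ x'.asIdeal by rw [h0]; exact zero_mem _)
  exact IsLocalization.isDomain_of_le_nonZeroDivisors (R := Fe) (S := Localization.Away a)
    (powers_le_nonZeroDivisors_of_noZeroDivisors ha0)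

/-- A purely transcendental extension has no algebraic elements outside the base. -/
theorem mem_range_of_isAlgebraic {k L ι : Type u} [Field k] [Field L] [Algebra k L] (x : ι → L)
    (hx : AlgebraicIndependent k x) (htop : IntermediateField.adjoin k (Set.range x) = ⊤) (α : L)
    (hα : IsAlgebraic k α) : α ∈ Set.range (algebraMap k L) := by
  classical
  letI : Algebra (MvPolynomial ι k) L := (MvPolynomial.aeval x).toRingHom.toAlgebra
  haveI : IsScalarTower k (MvPolynomial ι k) L := IsScalarTower.of_algebraMap_eq fun c => ((MvPolynomial.aeval x).commutes c).symm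
  have hinj : Function.Injective (algebraMap (MvPolynomial ι k) L) := algebraicIndependent_iff_injective_aeval.1 hx
  haveI : IsFractionRing (MvPolynomial ι k) L := by
    haveI : FaithfulSMul (MvPolynomial ι k) L := (faithfulSMul_iff_algebraMap_injective _ _).2 hinj
    refine IsFractionRing.of_field _ _ fun z => ?_
    have hz : z ∈ IntermediateField.adjoin k (Set.range x) := htop ▸ IntermediateField.mem_top
    obtain ⟨u, v, rfl⟩ : ∃ u v : MvPolynomial ι k, z = MvPolynomial.aeval x u / MvPolynomial.aeval x v := by
      obtain ⟨a, ha, b, hb, rfl⟩ := IntermediateField.mem_adjoin_iff_div.1 hz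
      rw [Algebra.adjoin_range_eq_range_aeval] at ha hb
      obtain ⟨u, rfl⟩ := ha
      obtain ⟨v, rfl⟩ := hb
      exact ⟨u, v, rfl⟩
    exact ⟨u, v, rfl⟩
  have hint : IsIntegral (MvPolynomial ι k) α := (hα.isIntegral).tower_top
  obtain ⟨m, rfl⟩ := IsIntegrallyClosed.isIntegral_iff.1 hint
  by_cases hm : m = 0
  · exact ⟨0, by simp [hm]⟩
  have hm' : IsAlgebraic k m := (isAlgebraic_algebraMap_iff hinj).1 hα
  obtain ⟨r, hr, hdvd⟩ := hm'.exists_nonzero_dvd (mem_nonZeroDivisors_of_ne_zero hm)
  have hu : IsUnit m := isUnit_of_dvd_unit hdvd ((isUnit_iff_ne_zero.2 hr).map _)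
  obtain ⟨c, -, rfl⟩ := MvPolynomial.isUnit_iff_eq_C_of_isReduced.1 hu
  exact ⟨c, IsScalarTower.algebraMap_apply k (MvPolynomial ι k) L c⟩

/-- A smooth domain over a field with a point whose residue field has no separable elements outside the base is
geometrically integral. -/
theorem isDomain_tensor_of_point (k F : Type u) [Field k] [CommRing F] [Algebra k F] [Algebra.Smooth k F] [IsDomain F]
    (P : Ideal F) [P.IsPrime] (hP : ∀ α : P.ResidueField, IsSeparable k α → α ∈ Set.range (algebraMap k P.ResidueField))
    (K : Type u) [Field K] [Algebra k K] : IsDomain (K ⊗[k] F) := by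
  refine ((Groth.Agent.S9629.result (k := k) (S := F)).out 0 2 rfl rfl).2 ?_ K
  let Kb := AlgebraicClosure k
  haveI : Algebra.Smooth Kb (Kb ⊗[k] F) := inferInstance
  suffices h : ConnectedSpace (PrimeSpectrum (F ⊗[k] Kb)) by
    haveI : ConnectedSpace (PrimeSpectrum (Kb ⊗[k] F)) :=
      (PrimeSpectrum.homeomorphOfRingEquiv (Algebra.TensorProduct.comm k Kb F).toRingEquiv).connectedSpace_iff.2 h
    exact GrothLib.SecLocus.isDomain_of_smooth_connected Kb (Kb ⊗[k] F)
  let π : PrimeSpectrum (F ⊗[k] Kb) → PrimeSpectrum F := PrimeSpectrum.comap (algebraMap F (F ⊗[k] Kb))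
  have hπo : IsOpenMap π := PrimeSpectrum.isOpenMap_comap_algebraMap_tensorProduct_of_field
  have hπc : IsClosedMap π := PrimeSpectrum.isClosedMap_comap_of_isIntegral _
    (algebraMap_isIntegral_iff.2 (inferInstance : Algebra.IsIntegral F (F ⊗[k] Kb)))
  let P₀ : PrimeSpectrum F := ⟨P, ‹_›⟩
  -- the fibre over the point is connected
  haveI : IrreducibleSpace (PrimeSpectrum (Kb ⊗[k] P.ResidueField)) := Groth.Agent.S2150.result.2 hP Kb
  let ι : F ⊗[k] Kb →ₐ[k] Kb ⊗[k] P.ResidueField :=
    (Algebra.TensorProduct.comm k P.ResidueField Kb).toAlgHom.comp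
      (Algebra.TensorProduct.map (IsScalarTower.toAlgHom k F P.ResidueField) (AlgHom.id k Kb))
  have hfib : π ⁻¹' {P₀} = Set.range (PrimeSpectrum.comap ι.toRingHom) := by
    ext z
    constructor
    · intro hz
      have hz' : P = z.asIdeal.comap (algebraMap F (F ⊗[k] Kb)) := (congrArg PrimeSpectrum.asIdeal hz).symm
      let g : Kb ⊗[k] P.ResidueField →ₐ[k] z.asIdeal.ResidueField :=
        Algebra.TensorProduct.lift
          ((IsScalarTower.toAlgHom k (F ⊗[k] Kb) z.asIdeal.ResidueField).comp Algebra.TensorProduct.includeRight)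
          (Ideal.ResidueField.mapₐ P z.asIdeal (IsScalarTower.toAlgHom k F (F ⊗[k] Kb)) hz')
          fun _ _ => Commute.all _ _
      refine ⟨⟨RingHom.ker g.toRingHom, RingHom.ker_isPrime _⟩, PrimeSpectrum.ext (Ideal.ext fun w => ?_)⟩
      have hgι : g.comp ι = IsScalarTower.toAlgHom k (F ⊗[k] Kb) z.asIdeal.ResidueField := by
        refine Algebra.TensorProduct.ext (AlgHom.ext fun f => ?_) (AlgHom.ext fun c => ?_)
        · show g (ι (f ⊗ₜ 1)) = _
          simp only [ι, AlgHom.comp_apply, AlgEquiv.coe_toAlgHom, Algebra.TensorProduct.map_tmul,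
            Algebra.TensorProduct.comm_tmul, map_one, g, Algebra.TensorProduct.lift_tmul, one_mul]
          show Ideal.ResidueField.map P z.asIdeal _ hz' (algebraMap F P.ResidueField f) = _
          rw [Ideal.ResidueField.map_algebraMap]
          rfl
        · show g (ι (1 ⊗ₜ c)) = _
          simp only [ι, AlgHom.comp_apply, AlgEquiv.coe_toAlgHom, Algebra.TensorProduct.map_tmul,
            Algebra.TensorProduct.comm_tmul, map_one, g, Algebra.TensorProduct.lift_tmul, mul_one]
          rfl
      show g (ι w) = 0 ↔ w ∈ z.asIdeal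
      rw [← AlgHom.comp_apply, hgι]
      exact Ideal.algebraMap_residueField_eq_zero
    · rintro ⟨z', rfl⟩
      refine PrimeSpectrum.ext (Ideal.ext fun f => ?_)
      show ι (f ⊗ₜ 1) ∈ z'.asIdeal ↔ f ∈ P
      simp only [ι, AlgHom.comp_apply, AlgEquiv.coe_toAlgHom, Algebra.TensorProduct.map_tmul,
        Algebra.TensorProduct.comm_tmul, map_one]
      refine ⟨fun hf => by_contra fun hfP => z'.2.ne_top (Ideal.eq_top_of_isUnit_mem _ hf ?_), fun hf => ?_⟩
      · exact (isUnit_iff_ne_zero.2 (Ideal.algebraMap_residueField_eq_zero.not.2 hfP)).map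
          (Algebra.TensorProduct.includeRight : P.ResidueField →ₐ[k] Kb ⊗[k] P.ResidueField)
      · rw [show (IsScalarTower.toAlgHom k F P.ResidueField) f = 0 from Ideal.algebraMap_residueField_eq_zero.2 hf,
          TensorProduct.tmul_zero]
        exact zero_mem _
  have hΦ : IsConnected (π ⁻¹' {P₀}) := by
    rw [hfib]
    exact isConnected_range (PrimeSpectrum.continuous_comap _)
  obtain ⟨z₀, hz₀⟩ := hΦ.1
  haveI : Nonempty (PrimeSpectrum (F ⊗[k] Kb)) := ⟨z₀⟩
  haveI : PreconnectedSpace (PrimeSpectrum (F ⊗[k] Kb)) := by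
    rw [preconnectedSpace_iff_clopen]
    intro U hU
    by_contra! hne
    obtain ⟨hU0, hU1⟩ := hne
    have hmeet : ∀ V : Set (PrimeSpectrum (F ⊗[k] Kb)), IsClopen V → V.Nonempty → (π ⁻¹' {P₀} ∩ V).Nonempty := by
      intro V hV hne
      have : π '' V = Set.univ := (isClopen_iff.1 ⟨hπc _ hV.1, hπo _ hV.2⟩).resolve_left (hne.image _).ne_empty
      obtain ⟨v, hv, hvP⟩ := this.ge (Set.mem_univ P₀)
      exact ⟨v, hvP, hv⟩
    obtain ⟨a, ha, haU⟩ := hmeet U hU hU0
    obtain ⟨b, hb, hbU⟩ := hmeet Uᶜ hU.compl (Set.nonempty_compl.2 hU1)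
    exact hbU (hΦ.isPreconnected.subset_isClopen hU ⟨a, ha, haU⟩ hb)
  exact ⟨inferInstance⟩

end GrothLib.RG6.Geom
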