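import Mathlib
import Groth.Prelude.Def_MoreMor
import Groth.Agent.Lib.SecComp6.Smooth
import Groth.Agent.S1324

/-!
# Spreading connectedness of a fibre through a finite flat family of points
-/

set_option autoImplicit false
set_option linter.style.haveILetI false
set_option linter.unusedSectionVars false

universe u

open TensorProduct AlgebraicGeometry CategoryTheory CategoryTheory.Limits

namespace GrothLib.RG6.Geom

variable {A E T : Type u} [CommRing A] [CommRing E] [CommRing T] [Algebra A E] [Algebra A T]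

/-- The projection of `L ⊗ E` to `E`. -/
noncomputable def pr (L : Type u) [CommRing L] [Algebra A L] : PrimeSpectrum (L ⊗[A] E) → PrimeSpectrum E :=
  PrimeSpectrum.comap (Algebra.TensorProduct.includeRight (R := A) (A := L) (B := E)).toRingHom

/-- An open of `Spec E` whose geometric fibres lie in single components, around a connected fibre. -/
theorem exists_open_connected [Algebra.Smooth A E] [Module.Finite A T] [Module.Flat A T]
    [Algebra.FinitePresentation A T] (σ : E →ₐ[A] T) (u : PrimeSpectrum A)
    (hu : u ∈ Set.range (PrimeSpectrum.comap (algebraMap A T)))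
    (hconn : ∀ (L : Type u) [Field L] [Algebra A L], RingHom.ker (algebraMap A L) = u.asIdeal →
      ConnectedSpace (PrimeSpectrum (L ⊗[A] E))) :
    ∃ W : Set (PrimeSpectrum E), IsOpen W ∧ PrimeSpectrum.comap (algebraMap A E) ⁻¹' {u} ⊆ W ∧
      ∀ (L : Type u) [Field L] [IsAlgClosed L] [Algebra A L] (a b : PrimeSpectrum (L ⊗[A] E)),
        pr L a ∈ W → pr L b ∈ W → b ∈ connectedComponent a := by
  let fE := Spec.map (CommRingCat.ofHom (algebraMap A E))
  let gT := Spec.map (CommRingCat.ofHom (algebraMap A T))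
  let X := Spec (CommRingCat.of (T ⊗[A] E))
  let f : X ⟶ Spec (CommRingCat.of T) := Spec.map (CommRingCat.ofHom (algebraMap T (T ⊗[A] E)))
  let sec : T ⊗[A] E →ₐ[A] T := Algebra.TensorProduct.lift (AlgHom.id A T) σ fun _ _ => Commute.all _ _
  let e : Spec (CommRingCat.of T) ⟶ X := Spec.map (CommRingCat.ofHom sec.toRingHom)
  have he : e ≫ f = 𝟙 _ := by
    rw [← Spec.map_comp, ← Spec.map_id]
    congr 1
    ext t
    show sec (algebraMap T (T ⊗[A] E) t) = t
    simp [sec]
  haveI : Smooth f := by
    rw [HasRingHomProperty.Spec_iff (P := @Smooth)]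
    exact RingHom.smooth_algebraMap.mpr inferInstance
  let C : Set X := MoreMor.sectionComponents f e
  have hC : IsOpen C := GrothLib.SecComp6.isOpen_sectionComponents_smooth f e he
  let π : PrimeSpectrum (T ⊗[A] E) → PrimeSpectrum E :=
    PrimeSpectrum.comap (Algebra.TensorProduct.includeRight (R := A) (A := T) (B := E)).toRingHom
  have hπ : IsClosedMap π := by
    refine PrimeSpectrum.isClosedMap_comap_of_isIntegral _ ?_
    have h1 : ((Algebra.TensorProduct.comm A E T).toRingEquiv.toRingHom.comp (algebraMap E (E ⊗[A] T))).Finite :=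
      RingHom.Finite.comp (RingHom.Finite.of_surjective _ (Algebra.TensorProduct.comm A E T).toRingEquiv.surjective)
        (RingHom.finite_algebraMap.2 inferInstance)
    have h2 : (Algebra.TensorProduct.comm A E T).toRingEquiv.toRingHom.comp (algebraMap E (E ⊗[A] T)) =
        (Algebra.TensorProduct.includeRight (R := A) (A := T) (B := E)).toRingHom := by
      ext x; simp
    exact RingHom.Finite.to_isIntegral (h2 ▸ h1)
  let W₁ : Set (PrimeSpectrum E) := (π '' (Cᶜ : Set (PrimeSpectrum (T ⊗[A] E))))ᶜ
  let Im : Set (PrimeSpectrum A) := Set.range (PrimeSpectrum.comap (algebraMap A T))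
  have hIm : IsOpen Im := by
    rw [show Im = PrimeSpectrum.comap (algebraMap A T) '' Set.univ from Set.image_univ.symm]
    exact PrimeSpectrum.isOpenMap_comap_of_hasGoingDown_of_finitePresentation _ isOpen_univ
  -- membership in `C` read on a geometric point
  have key : ∀ (L : Type u) [Field L] [Algebra A L] (τ : T →ₐ[A] L) (a : PrimeSpectrum (L ⊗[A] E)),
      (PrimeSpectrum.comap (Algebra.TensorProduct.map τ (AlgHom.id A E)).toRingHom a : X) ∈ C ↔
        a ∈ connectedComponent
          (PrimeSpectrum.comap (Algebra.TensorProduct.lift (AlgHom.id A L) (τ.comp σ) fun _ _ => Commute.all _ _).toRingHom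
            (⊥ : PrimeSpectrum L)) := by
    intro L _ _ τ a
    let f' : Spec (CommRingCat.of (L ⊗[A] E)) ⟶ Spec (CommRingCat.of L) :=
      Spec.map (CommRingCat.ofHom (algebraMap L (L ⊗[A] E)))
    let g' : Spec (CommRingCat.of (L ⊗[A] E)) ⟶ X :=
      Spec.map (CommRingCat.ofHom (Algebra.TensorProduct.map τ (AlgHom.id A E)).toRingHom)
    let t : Spec (CommRingCat.of L) ⟶ Spec (CommRingCat.of T) := Spec.map (CommRingCat.ofHom τ.toRingHom)
    let secL : L ⊗[A] E →ₐ[A] L := Algebra.TensorProduct.lift (AlgHom.id A L) (τ.comp σ) fun _ _ => Commute.all _ _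
    let e' : Spec (CommRingCat.of L) ⟶ Spec (CommRingCat.of (L ⊗[A] E)) := Spec.map (CommRingCat.ofHom secL.toRingHom)
    have he' : e' ≫ f' = 𝟙 _ := by
      rw [← Spec.map_comp, ← Spec.map_id]
      congr 1
      ext l
      show secL (algebraMap L (L ⊗[A] E) l) = l
      simp [secL]
    have heg : e' ≫ g' = t ≫ e := by
      rw [← Spec.map_comp, ← Spec.map_comp]
      congr 1
      ext1
      exact congrArg AlgHom.toRingHom
        (show secL.comp (Algebra.TensorProduct.map τ (AlgHom.id A E)) = τ.comp sec from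
          Algebra.TensorProduct.ext (AlgHom.ext fun x => by simp [secL, sec]) (AlgHom.ext fun x => by simp [secL, sec]))
    have hw : g' ≫ f = f' ≫ t := by
      rw [← Spec.map_comp, ← Spec.map_comp]
      congr 1
    let rT : X ⟶ Spec (CommRingCat.of E) :=
      Spec.map (CommRingCat.ofHom (Algebra.TensorProduct.includeRight (R := A) (A := T) (B := E)).toRingHom)
    have h0 : IsPullback f rT gT fE := isPullback_SpecMap_of_isPushout _ _ _ _
      (CommRingCat.isPushout_tensorProduct A T E)
    have hL : IsPullback f' (g' ≫ rT) (t ≫ gT) fE := by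
      have h1 : g' ≫ rT = Spec.map (CommRingCat.ofHom (Algebra.TensorProduct.includeRight (R := A) (A := L) (B := E)).toRingHom) := by
        rw [← Spec.map_comp]
        congr 1
        ext x
        show Algebra.TensorProduct.map τ (AlgHom.id A E) ((1 : T) ⊗ₜ x) = (1 : L) ⊗ₜ x
        simp
      have h2 : t ≫ gT = Spec.map (CommRingCat.ofHom (algebraMap A L)) := by
        rw [← Spec.map_comp]
        congr 1
        ext x
        exact τ.commutes x
      rw [h1, h2]
      exact isPullback_SpecMap_of_isPushout _ _ _ _ (CommRingCat.isPushout_tensorProduct A L E)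
    have hpb : IsPullback g' f' f t := (IsPullback.of_right hL.flip hw h0.flip)
    have h := Groth.Agent.S1324.result f e he f' g' t hpb e' he' heg
    show a ∈ g' ⁻¹' MoreMor.sectionComponents f e ↔ _
    rw [← h]
    show a ∈ connectedComponentIn (f' ⁻¹' {f' a}) (e' (f' a)) ↔ _
    haveI : Subsingleton (Spec (CommRingCat.of L)) := inferInstanceAs (Subsingleton (PrimeSpectrum L))
    rw [show f' ⁻¹' {f' a} = Set.univ from Set.eq_univ_of_forall fun z => Subsingleton.elim _ _,
      connectedComponentIn_univ, show f' a = (⊥ : PrimeSpectrum L) from Subsingleton.elim _ _]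
    rfl
  refine ⟨W₁ ∩ PrimeSpectrum.comap (algebraMap A E) ⁻¹' Im,
    (hπ _ hC.isClosed_compl).isOpen_compl.inter (hIm.preimage (PrimeSpectrum.continuous_comap _)), fun x hx => ⟨?_, ?_⟩, ?_⟩
  · rintro ⟨z, hz, rfl⟩
    -- the geometric point at `z`
    let κ := z.asIdeal.ResidueField
    let L := AlgebraicClosure κ
    let ev : T ⊗[A] E →ₐ[A] L := IsScalarTower.toAlgHom A (T ⊗[A] E) L
    let τ : T →ₐ[A] L := ev.comp Algebra.TensorProduct.includeLeft
    let ε : L ⊗[A] E →ₐ[A] L :=
      Algebra.TensorProduct.lift (AlgHom.id A L) (ev.comp Algebra.TensorProduct.includeRight) fun _ _ => Commute.all _ _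
    have hεev : ε.comp (Algebra.TensorProduct.map τ (AlgHom.id A E)) = ev :=
      Algebra.TensorProduct.ext (AlgHom.ext fun a => by simp [ε, τ, ← Algebra.TensorProduct.one_def]) (AlgHom.ext fun a => by simp [ε, τ, ← Algebra.TensorProduct.one_def])
    have hker : ∀ w : T ⊗[A] E, ev w = 0 ↔ w ∈ z.asIdeal := fun w => by
      show algebraMap (T ⊗[A] E) L w = 0 ↔ _
      rw [IsScalarTower.algebraMap_apply (T ⊗[A] E) κ L, map_eq_zero_iff _ (algebraMap κ L).injective]
      exact Ideal.algebraMap_residueField_eq_zero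
    haveI := hconn L (by
      ext r
      rw [RingHom.mem_ker, ← ev.commutes r, hker]
      have h1 : r ∈ u.asIdeal ↔ algebraMap A E r ∈ (π z).asIdeal :=
        SetLike.ext_iff.1 (congrArg PrimeSpectrum.asIdeal hx).symm r
      rw [h1]
      show _ ↔ Algebra.TensorProduct.includeRight (R := A) (A := T) (algebraMap A E r) ∈ z.asIdeal
      rw [AlgHom.commutes])
    refine hz ?_
    have hzz : PrimeSpectrum.comap (Algebra.TensorProduct.map τ (AlgHom.id A E)).toRingHom
        (PrimeSpectrum.comap ε.toRingHom (⊥ : PrimeSpectrum L)) = z := by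
      refine PrimeSpectrum.ext (Ideal.ext fun w => ?_)
      show (ε.comp (Algebra.TensorProduct.map τ (AlgHom.id A E))) w ∈ (⊥ : Ideal L) ↔ _
      rw [hεev, Ideal.mem_bot, hker]
    rw [← hzz]
    refine (key L τ _).2 ?_
    rw [PreconnectedSpace.connectedComponent_eq_univ]
    trivial
  · show PrimeSpectrum.comap (algebraMap A E) x ∈ Im
    rw [show PrimeSpectrum.comap (algebraMap A E) x = u from hx]
    exact hu
  · intro L _ _ _ a b ha hb
    -- a point of `T` below the geometric point
    obtain ⟨t, ht⟩ := ha.2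
    let kA := RingHom.ker (algebraMap A L)
    haveI : kA.IsPrime := RingHom.ker_isPrime _
    have htk : kA = t.asIdeal.comap (algebraMap A T) := by
      refine Ideal.ext fun r => ?_
      have h1 : r ∈ t.asIdeal.comap (algebraMap A T) ↔ algebraMap A E r ∈ (pr L a).asIdeal :=
        SetLike.ext_iff.1 (congrArg PrimeSpectrum.asIdeal ht) r
      rw [h1]
      show _ ↔ Algebra.TensorProduct.includeRight (R := A) (A := L) (algebraMap A E r) ∈ a.asIdeal
      rw [AlgHom.commutes, IsScalarTower.algebraMap_apply A L (L ⊗[A] E)]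
      refine ⟨fun h => by rw [RingHom.mem_ker.1 h, map_zero]; exact zero_mem _, fun h => RingHom.mem_ker.2 ?_⟩
      by_contra hne
      exact a.2.ne_top (Ideal.eq_top_of_isUnit_mem _ h ((isUnit_iff_ne_zero.2 hne).map _))
    haveI : t.asIdeal.LiesOver kA := ⟨htk⟩
    let ι : kA.ResidueField →ₐ[A] L := Ideal.ResidueField.liftₐ kA (Algebra.ofId A L) le_rfl
      fun r hr => (isUnit_iff_ne_zero.2 fun h => hr (RingHom.mem_ker.2 h) :)
    letI : Algebra kA.ResidueField L := ι.toRingHom.toAlgebra
    letI : Algebra kA.ResidueField t.asIdeal.ResidueField :=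
      (Ideal.ResidueField.mapₐ kA t.asIdeal (Algebra.ofId A T) htk).toRingHom.toAlgebra
    haveI : IsScalarTower A kA.ResidueField t.asIdeal.ResidueField := IsScalarTower.of_algebraMap_eq fun r =>
      ((Ideal.ResidueField.mapₐ kA t.asIdeal (Algebra.ofId A T) htk).commutes r).symm
    haveI : IsScalarTower A kA.ResidueField L := IsScalarTower.of_algebraMap_eq fun r => (ι.commutes r).symm
    haveI : Algebra.IsAlgebraic kA.ResidueField t.asIdeal.ResidueField := by
      haveI : Algebra.IsIntegral A T := Algebra.IsIntegral.of_finite A T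
      refine ⟨fun z => ?_⟩
      obtain ⟨c, d, -, rfl⟩ := IsFractionRing.div_surjective (T ⧸ t.asIdeal) z
      obtain ⟨c, rfl⟩ := Ideal.Quotient.mk_surjective c
      obtain ⟨d, rfl⟩ := Ideal.Quotient.mk_surjective d
      have h1 : ∀ c : T, IsIntegral kA.ResidueField (algebraMap T t.asIdeal.ResidueField c) := fun c =>
        ((Algebra.IsIntegral.isIntegral (R := A) c).map (IsScalarTower.toAlgHom A T t.asIdeal.ResidueField)).tower_top
      have h2 := (h1 c).isAlgebraic.mul (h1 d).isAlgebraic.inv
      rwa [← div_eq_mul_inv] at h2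
    let j : t.asIdeal.ResidueField →ₐ[kA.ResidueField] L := IsAlgClosed.lift
    let τ : T →ₐ[A] L := (j.restrictScalars A).comp (IsScalarTower.toAlgHom A T t.asIdeal.ResidueField)
    have hmem : ∀ c : PrimeSpectrum (L ⊗[A] E), pr L c ∈ W₁ →
        (PrimeSpectrum.comap (Algebra.TensorProduct.map τ (AlgHom.id A E)).toRingHom c : X) ∈ C := by
      intro c hc
      by_contra hn
      refine hc ⟨_, hn, ?_⟩
      refine PrimeSpectrum.ext (Ideal.ext fun w => ?_)
      show Algebra.TensorProduct.map τ (AlgHom.id A E) ((1 : T) ⊗ₜ w) ∈ c.asIdeal ↔ (1 : L) ⊗ₜ w ∈ c.asIdeal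
      simp
    have h1 := (key L τ a).1 (hmem a ha.1)
    have h2 := (key L τ b).1 (hmem b hb.1)
    rw [connectedComponent_eq h1] at h2
    exact h2

end GrothLib.RG6.Geom
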