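import Mathlib
import Groth.Prelude.Def_FlatCA
import Groth.Agent.Lib.RG6.Geom.Base
import Groth.Agent.Lib.RG6.Geom.Spread
import Groth.Agent.Lib.RG6.Geom.Field
import Groth.Agent.S9432
import Groth.Agent.S9629

/-!
# Étale neighbourhoods with geometrically integral fibres
-/

set_option autoImplicit false
set_option linter.style.haveILetI false
set_option linter.unusedSectionVars false

universe u

open TensorProduct

namespace GrothLib.RG6.Geom

/-- Two ring homs agreeing on the base factor through the tensor product. -/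
theorem exists_pushout_lift {k L B C : Type u} [CommRing k] [CommRing L] [CommRing B] [CommRing C] [Algebra k L]
    [Algebra k B] (a : L →+* C) (b : B →+* C) (h : ∀ c : k, a (algebraMap k L c) = b (algebraMap k B c)) :
    ∃ χ : L ⊗[k] B →+* C, ∀ (l : L) (z : B), χ (l ⊗ₜ z) = a l * b z := by
  letI : Algebra k C := (a.comp (algebraMap k L)).toAlgebra
  exact ⟨(Algebra.TensorProduct.lift ({ a with commutes' := fun _ => rfl } : L →ₐ[k] C)
    ({ b with commutes' := fun c => (h c).symm } : B →ₐ[k] C) fun _ _ => Commute.all _ _).toRingHom,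
    fun l z => Algebra.TensorProduct.lift_tmul _ _ _ l z⟩

/-- The canonical map to a neighbourhood of `D` over a neighbourhood of the base. -/
noncomputable def pieceHom (R R' D D' : Type u) [CommRing R] [CommRing R'] [CommRing D] [CommRing D'] [Algebra R R']
    [Algebra R D] [Algebra R' D'] [Algebra D D'] [Algebra R D'] [IsScalarTower R R' D'] [IsScalarTower R D D'] :
    R' ⊗[R] D →ₐ[R] D' :=
  Algebra.TensorProduct.lift (IsScalarTower.toAlgHom R R' D') (IsScalarTower.toAlgHom R D D') fun _ _ => Commute.all _ _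

/-- The neighbourhood is an open piece of the base change. -/
def IsOpenPiece (R R' D D' : Type u) [CommRing R] [CommRing R'] [CommRing D] [CommRing D'] [Algebra R R']
    [Algebra R D] [Algebra R' D'] [Algebra D D'] [Algebra R D'] [IsScalarTower R R' D'] [IsScalarTower R D D'] : Prop :=
  ∃ e : R' ⊗[R] D, IsUnit (pieceHom R R' D D' e) ∧
    (∀ (Ω : Type u) [Field Ω] (χ : R' ⊗[R] D →+* Ω), χ e ≠ 0 →
      ∃ χ' : D' →+* Ω, χ'.comp (pieceHom R R' D D').toRingHom = χ) ∧
    ∀ (X : Type u) [CommRing X] (a b : D' →+* X),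
      a.comp (pieceHom R R' D D').toRingHom = b.comp (pieceHom R R' D D').toRingHom → a = b

/-- A point outside `a` in a geometric fibre. -/
theorem exists_point_over {A E : Type u} [CommRing A] [CommRing E] [Algebra A E] (L : Type u) [Field L] [Algebra A L]
    (x : PrimeSpectrum E) (hx : x.asIdeal.comap (algebraMap A E) = RingHom.ker (algebraMap A L)) (d : E) (hd : d ∉ x.asIdeal) :
    ∃ z : PrimeSpectrum (L ⊗[A] E), (1 : L) ⊗ₜ[A] d ∉ z.asIdeal := by
  let t := RingHom.ker (algebraMap A L)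
  haveI : t.IsPrime := RingHom.ker_isPrime _
  let ι : t.ResidueField →ₐ[A] L := Ideal.ResidueField.liftₐ t (Algebra.ofId A L) le_rfl
    fun r hr => (isUnit_iff_ne_zero.2 fun h => hr (RingHom.mem_ker.2 h) :)
  letI : Algebra t.ResidueField L := ι.toRingHom.toAlgebra
  let m := Ideal.ResidueField.mapₐ t x.asIdeal (Algebra.ofId A E) hx.symm
  letI : Algebra t.ResidueField x.asIdeal.ResidueField := m.toRingHom.toAlgebra
  haveI : IsScalarTower A t.ResidueField L := IsScalarTower.of_algebraMap_eq fun r => (ι.commutes r).symm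
  haveI : IsScalarTower A t.ResidueField x.asIdeal.ResidueField :=
    IsScalarTower.of_algebraMap_eq fun r => (m.commutes r).symm
  let K := L ⊗[t.ResidueField] x.asIdeal.ResidueField
  obtain ⟨M, hM⟩ := Ideal.exists_maximal K
  let h : L ⊗[A] E →ₐ[A] K := Algebra.TensorProduct.lift
    ((Algebra.TensorProduct.includeLeft : L →ₐ[t.ResidueField] K).restrictScalars A)
    (((Algebra.TensorProduct.includeRight : x.asIdeal.ResidueField →ₐ[t.ResidueField] K).restrictScalars A).comp
      (IsScalarTower.toAlgHom A E x.asIdeal.ResidueField)) fun _ _ => Commute.all _ _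
  refine ⟨PrimeSpectrum.comap h.toRingHom ⟨M, hM.isPrime⟩, fun hmem => hM.ne_top (Ideal.eq_top_of_isUnit_mem _ hmem ?_)⟩
  have : h.toRingHom ((1 : L) ⊗ₜ[A] d) =
      (Algebra.TensorProduct.includeRight : x.asIdeal.ResidueField →ₐ[t.ResidueField] K) (algebraMap E _ d) := by
    simp [h, ← Algebra.TensorProduct.one_def]
  rw [this]
  exact (isUnit_iff_ne_zero.2 (Ideal.algebraMap_residueField_eq_zero.not.2 hd)).map _

/-- A principal open of the base change over a principal open of the base is an open piece. -/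
theorem isOpenPiece_away {R R' R'' D D' : Type u} [CommRing R] [CommRing R'] [CommRing R''] [CommRing D] [CommRing D']
    [Algebra R R'] [Algebra R' R''] [Algebra R R''] [IsScalarTower R R' R''] [Algebra R D]
    [Algebra (R' ⊗[R] D) D'] [Algebra R'' D'] [Algebra R' D'] [IsScalarTower R' R'' D'] [IsScalarTower R' (R' ⊗[R] D) D']
    [Algebra D D'] [Algebra R D'] [IsScalarTower R R'' D'] [IsScalarTower R D D']
    (g : R') [IsLocalization.Away g R''] (d₀ d : R' ⊗[R] D) (hd₀ : d₀ = d * algebraMap R' (R' ⊗[R] D) g)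
    [IsLocalization.Away d₀ D'] (hD : ∀ x : D, algebraMap D D' x = algebraMap (R' ⊗[R] D) D' ((1 : R') ⊗ₜ x) := by exact fun _ => rfl) :
    IsOpenPiece R R'' D D' := by
  let m : R' ⊗[R] D →ₐ[R] R'' ⊗[R] D := Algebra.TensorProduct.map (IsScalarTower.toAlgHom R R' R'') (AlgHom.id R D)
  have hm : (pieceHom R R'' D D').toRingHom.comp m.toRingHom = algebraMap (R' ⊗[R] D) D' := by
    refine Algebra.TensorProduct.ringHom_ext (RingHom.ext fun r => ?_) (RingHom.ext fun x => ?_)
    · show pieceHom R R'' D D' (m (r ⊗ₜ (1 : D))) = algebraMap (R' ⊗[R] D) D' (r ⊗ₜ 1)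
      simp only [m, pieceHom, Algebra.TensorProduct.map_tmul, Algebra.TensorProduct.lift_tmul, map_one, mul_one]
      show algebraMap R'' D' (algebraMap R' R'' r) = _
      rw [← IsScalarTower.algebraMap_apply R' R'' D', IsScalarTower.algebraMap_apply R' (R' ⊗[R] D) D']
      rfl
    · show pieceHom R R'' D D' (m ((1 : R') ⊗ₜ x)) = algebraMap (R' ⊗[R] D) D' (1 ⊗ₜ x)
      simp only [m, pieceHom, Algebra.TensorProduct.map_tmul, Algebra.TensorProduct.lift_tmul, map_one, one_mul]
      exact hD x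
  refine ⟨m d, ?_, fun Ω _ χ hχ => ?_, fun X _ a b hab => ?_⟩
  rotate_left 2
  · refine IsLocalization.ringHom_ext (Submonoid.powers d₀) ?_
    rw [← hm, ← RingHom.comp_assoc, hab, RingHom.comp_assoc]
  · show IsUnit ((pieceHom R R'' D D').toRingHom.comp m.toRingHom d)
    rw [hm]
    have h1 : IsUnit (algebraMap (R' ⊗[R] D) D' d₀) := IsLocalization.Away.algebraMap_isUnit d₀
    rw [hd₀, map_mul] at h1
    exact isUnit_of_mul_isUnit_left h1
  · have hu : IsUnit ((χ.comp m.toRingHom) d₀) := by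
      refine isUnit_iff_ne_zero.2 ?_
      rw [hd₀, map_mul]
      refine mul_ne_zero hχ ?_
      have hg : IsUnit (m.toRingHom (algebraMap R' (R' ⊗[R] D) g)) := by
        show IsUnit (m (g ⊗ₜ[R] (1 : D)))
        rw [Algebra.TensorProduct.map_tmul, map_one]
        exact (IsLocalization.Away.algebraMap_isUnit (S := R'') g).map
          (Algebra.TensorProduct.includeLeftRingHom : R'' →+* R'' ⊗[R] D)
      exact (hg.map χ).ne_zero
    let χ' : D' →+* Ω := IsLocalization.Away.lift d₀ hu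
    have hχ' : ∀ z, χ' (algebraMap (R' ⊗[R] D) D' z) = χ (m z) := fun z => IsLocalization.Away.lift_eq d₀ hu z
    refine ⟨χ', Algebra.TensorProduct.ringHom_ext (IsLocalization.ringHom_ext (Submonoid.powers g)
      (RingHom.ext fun r => ?_)) (RingHom.ext fun x => ?_)⟩
    · show χ' (pieceHom R R'' D D' (algebraMap R' R'' r ⊗ₜ (1 : D))) = χ (algebraMap R' R'' r ⊗ₜ (1 : D))
      rw [show algebraMap R' R'' r ⊗ₜ[R] (1 : D) = m (r ⊗ₜ 1) by simp [m],
        show pieceHom R R'' D D' (m (r ⊗ₜ 1)) = algebraMap (R' ⊗[R] D) D' (r ⊗ₜ 1) from RingHom.congr_fun hm (r ⊗ₜ[R] (1 : D)), hχ']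
    · show χ' (pieceHom R R'' D D' ((1 : R'') ⊗ₜ x)) = χ ((1 : R'') ⊗ₜ x)
      rw [show (1 : R'') ⊗ₜ[R] x = m ((1 : R') ⊗ₜ x) by simp [m],
        show pieceHom R R'' D D' (m ((1 : R') ⊗ₜ x)) = algebraMap (R' ⊗[R] D) D' (1 ⊗ₜ x) from RingHom.congr_fun hm ((1 : R') ⊗ₜ[R] x), hχ']

/-- A smooth faithfully flat algebra with connected geometric fibre at a point gets geometrically integral fibres
after an étale neighbourhood. -/
theorem exists_geom_nhd_aux {R D : Type u} [CommRing R] [CommRing D] [Algebra R D] [Module.FaithfullyFlat R D] (n : ℕ)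
    (hsm : FlatCA.SmoothRelDim n R D) (p : Ideal R) [p.IsPrime] (y : Ideal D) [y.IsPrime] [hyp : y.LiesOver p]
    (hgeo : ∀ (L : Type u) [Field L] [Algebra R L], RingHom.ker (algebraMap R L) = p → IsDomain (L ⊗[R] D)) :
    ∃ (R' D' : Type u) (_ : CommRing R') (_ : CommRing D') (_ : Algebra R R') (_ : Algebra R' D') (_ : Algebra D D')
      (_ : Algebra R D') (_ : IsScalarTower R R' D') (_ : IsScalarTower R D D')
      (p' : Ideal R') (y' : Ideal D') (_ : p'.IsPrime) (_ : y'.IsPrime) (_ : y'.LiesOver p'),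
      FlatCA.IsEtaleNhd R R' p p' ∧ FlatCA.IsEtaleNhd D D' y y' ∧ FlatCA.SmoothRelDim n R' D' ∧
        FlatCA.GeomIntegralFibres R' D' ∧ IsOpenPiece R R' D D' := by
  haveI := smooth_of_smoothRelDim hsm
  -- a quasi-finite multisection and its splitting
  obtain ⟨S, _, _, _, _, _, _, ⟨ψ⟩⟩ := Groth.Agent.S9432.result R D
  obtain ⟨Q, hQ⟩ := PrimeSpectrum.comap_surjective_of_faithfullyFlat (A := R) (B := S) ⟨p, ‹_›⟩
  haveI : Q.asIdeal.LiesOver p := ⟨(congrArg PrimeSpectrum.asIdeal hQ).symm⟩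
  obtain ⟨R', _, _, _, P, _, _, e, he, P', _, _, hP'q, heP', hP, hfin, -⟩ :=
    Algebra.exists_etale_isIdempotentElem_forall_liesOver_eq p Q.asIdeal
  let T := Localization.Away e
  let E := R' ⊗[R] D
  let σ : E →ₐ[R'] T :=
    (IsScalarTower.toAlgHom R' (R' ⊗[R] S) T).comp (Algebra.TensorProduct.map (AlgHom.id R' R') ψ)
  haveI : Algebra.Smooth R' E := inferInstance
  haveI : Algebra.FinitePresentation (R' ⊗[R] S) T := IsLocalization.Away.finitePresentation e
  haveI : Algebra.FinitePresentation R' T := Algebra.FinitePresentation.trans R' (R' ⊗[R] S) T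
  haveI : Module.Flat (R' ⊗[R] S) T := IsLocalization.flat T (Submonoid.powers e)
  haveI : Module.Flat R' T := Module.Flat.trans R' (R' ⊗[R] S) T
  have hu : (⟨P, ‹_›⟩ : PrimeSpectrum R') ∈ Set.range (PrimeSpectrum.comap (algebraMap R' T)) := by
    have : (⟨P', ‹_›⟩ : PrimeSpectrum (R' ⊗[R] S)) ∈ Set.range (PrimeSpectrum.comap (algebraMap (R' ⊗[R] S) T)) := by
      rw [PrimeSpectrum.localization_away_comap_range T e]; exact heP'
    obtain ⟨z, hz⟩ := this
    refine ⟨z, PrimeSpectrum.ext ?_⟩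
    have h1 : z.asIdeal.comap (algebraMap (R' ⊗[R] S) T) = P' := congrArg PrimeSpectrum.asIdeal hz
    show z.asIdeal.comap (algebraMap R' T) = P
    rw [IsScalarTower.algebraMap_eq R' (R' ⊗[R] S) T, ← Ideal.comap_comap, h1]
    exact (P'.over_def P).symm
  have hconn : ∀ (L : Type u) [Field L] [Algebra R' L], RingHom.ker (algebraMap R' L) = P →
      ConnectedSpace (PrimeSpectrum (L ⊗[R'] E)) := by
    intro L _ _ hker
    letI : Algebra R L := ((algebraMap R' L).comp (algebraMap R R')).toAlgebra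
    haveI : IsScalarTower R R' L := IsScalarTower.of_algebraMap_eq fun _ => rfl
    haveI := hgeo L (by
      rw [show algebraMap R L = (algebraMap R' L).comp (algebraMap R R') from rfl, ← RingHom.comap_ker, hker]
      exact (P.over_def p).symm)
    exact (PrimeSpectrum.homeomorphOfRingEquiv
      (Algebra.TensorProduct.cancelBaseChange R R' R' L D).toRingEquiv).connectedSpace_iff.2 inferInstance
  obtain ⟨W, hWo, hWu, hW⟩ := exists_open_connected σ ⟨P, ‹_›⟩ hu hconn
  -- the point of `E`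
  let rb := RingEquiv.ofBijective (Ideal.ResidueField.mapₐ p P (Algebra.ofId R R') (P.over_def p)).toRingHom hP
  let g₀ : R' →+* p.ResidueField := rb.symm.toRingHom.comp (algebraMap R' P.ResidueField)
  have hg₀ : g₀.comp (algebraMap R R') = algebraMap R p.ResidueField := by
    ext r
    show rb.symm (algebraMap R' P.ResidueField (algebraMap R R' r)) = _
    rw [← IsScalarTower.algebraMap_apply, RingEquiv.symm_apply_eq]
    exact ((Ideal.ResidueField.mapₐ p P (Algebra.ofId R R') (P.over_def p)).commutes r).symm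
  have hg₀P : RingHom.ker g₀ = P := by
    ext r
    rw [RingHom.mem_ker]
    show rb.symm (algebraMap R' P.ResidueField r) = 0 ↔ _
    rw [EmbeddingLike.map_eq_zero_iff]
    exact Ideal.algebraMap_residueField_eq_zero
  let jy := Ideal.ResidueField.mapₐ p y (Algebra.ofId R D) hyp.over
  have hu' : ∀ r : R, (jy.toRingHom.comp g₀) (algebraMap R R' r) = algebraMap R y.ResidueField r := fun r => by
    show jy (g₀ (algebraMap R R' r)) = _
    rw [← RingHom.comp_apply, hg₀, jy.commutes]
  let u' : R' →ₐ[R] y.ResidueField := { jy.toRingHom.comp g₀ with commutes' := hu' }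
  let v : E →+* y.ResidueField := (Algebra.TensorProduct.lift u' (IsScalarTower.toAlgHom R D y.ResidueField)
    fun _ _ => Commute.all _ _).toRingHom
  have hv1 : ∀ r : R', v (algebraMap R' E r) = jy (g₀ r) := fun r => by
    show Algebra.TensorProduct.lift _ _ _ (r ⊗ₜ (1 : D)) = _
    rw [Algebra.TensorProduct.lift_tmul, map_one, mul_one]
    rfl
  let x : PrimeSpectrum E := ⟨RingHom.ker v, RingHom.ker_isPrime _⟩
  have hxW : x ∈ W := hWu (PrimeSpectrum.ext (Ideal.ext fun r => by
    show v (algebraMap R' E r) = 0 ↔ r ∈ P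
    rw [hv1, show jy (g₀ r) = 0 ↔ g₀ r = 0 from map_eq_zero_iff jy (RingHom.injective jy.toRingHom), ← RingHom.mem_ker, hg₀P]))
  obtain ⟨_, ⟨d, rfl⟩, hxd, hdW⟩ :=
    PrimeSpectrum.isTopologicalBasis_basic_opens.exists_subset_of_mem_open hxW hWo
  have himo : IsOpen (PrimeSpectrum.comap (algebraMap R' E) '' (PrimeSpectrum.basicOpen d : Set _)) :=
    PrimeSpectrum.isOpenMap_comap_of_hasGoingDown_of_finitePresentation _ (PrimeSpectrum.basicOpen d).isOpen
  obtain ⟨_, ⟨g, rfl⟩, hPg, hgIm⟩ := PrimeSpectrum.isTopologicalBasis_basic_opens.exists_subset_of_mem_open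
    (a := PrimeSpectrum.comap (algebraMap R' E) x) (Set.mem_image_of_mem _ hxd) himo
  -- the neighbourhood
  let R'' := Localization.Away g
  let d₀ : E := d * algebraMap R' E g
  let D' := Localization.Away d₀
  have hgu : IsUnit (algebraMap R' D' g) := by
    have h1 : IsUnit (algebraMap E D' d₀) := IsLocalization.Away.algebraMap_isUnit d₀
    simp only [d₀, map_mul, ← IsScalarTower.algebraMap_apply] at h1
    exact isUnit_of_mul_isUnit_right h1
  letI : Algebra R'' D' := (IsLocalization.Away.lift (S := R'') g hgu).toAlgebra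
  haveI : IsScalarTower R' R'' D' :=
    IsScalarTower.of_algebraMap_eq fun r => (IsLocalization.Away.lift_eq (S := R'') g hgu r).symm
  haveI : IsScalarTower R R'' D' := IsScalarTower.of_algebraMap_eq fun r => by
    rw [IsScalarTower.algebraMap_apply R R' R'', ← IsScalarTower.algebraMap_apply R' R'' D',
      ← IsScalarTower.algebraMap_apply]
  letI : Algebra D E := (Algebra.TensorProduct.includeRight : D →ₐ[R] E).toRingHom.toAlgebra
  haveI : IsScalarTower R D E := IsScalarTower.of_algebraMap_eq fun r =>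
    ((Algebra.TensorProduct.includeRight : D →ₐ[R] E).commutes r).symm
  haveI : IsScalarTower D E D' := inferInstance
  haveI : IsScalarTower R D D' := IsScalarTower.of_algebraMap_eq fun r => by
    show algebraMap R D' r = algebraMap E D' (algebraMap D E (algebraMap R D r))
    rw [← IsScalarTower.algebraMap_apply R D E, ← IsScalarTower.algebraMap_apply]
  have hgP : g ∉ P := fun h => hPg (show g ∈ (PrimeSpectrum.comap (algebraMap R' E) x).asIdeal by
    show v (algebraMap R' E g) = 0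
    rw [hv1, show g₀ g = 0 from RingHom.mem_ker.1 (hg₀P.ge h), map_zero])
  have hgu₀ : IsUnit (g₀ g) := isUnit_iff_ne_zero.2 fun h => hgP (hg₀P.le (RingHom.mem_ker.2 h))
  let g₁ : R'' →+* p.ResidueField := IsLocalization.Away.lift g hgu₀
  have hvu : IsUnit (v d₀) := isUnit_iff_ne_zero.2 (by
    rw [map_mul, hv1]
    exact mul_ne_zero hxd ((map_ne_zero jy.toRingHom).2 hgu₀.ne_zero))
  let v₁ : D' →+* y.ResidueField := IsLocalization.Away.lift d₀ hvu
  let p'' : Ideal R'' := RingHom.ker g₁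
  let y'' : Ideal D' := RingHom.ker v₁
  haveI : p''.IsPrime := RingHom.ker_isPrime _
  haveI : y''.IsPrime := RingHom.ker_isPrime _
  have hcompat : v₁.comp (algebraMap R'' D') = jy.toRingHom.comp g₁ := by
    refine IsLocalization.ringHom_ext (Submonoid.powers g) (RingHom.ext fun r => ?_)
    show v₁ (algebraMap R'' D' (algebraMap R' R'' r)) = jy (g₁ (algebraMap R' R'' r))
    rw [← IsScalarTower.algebraMap_apply, IsScalarTower.algebraMap_apply R' E D', IsLocalization.Away.lift_eq,
      IsLocalization.Away.lift_eq, hv1]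
  have hyp' : y''.LiesOver p'' := ⟨by
    rw [Ideal.under]
    show RingHom.ker g₁ = (RingHom.ker v₁).comap (algebraMap R'' D')
    ext r
    show g₁ r = 0 ↔ v₁ (algebraMap R'' D' r) = 0
    rw [← RingHom.comp_apply, hcompat]
    exact (map_eq_zero_iff jy (RingHom.injective jy.toRingHom)).symm⟩
  refine ⟨R'', D', inferInstance, inferInstance, inferInstance, inferInstance, inferInstance, inferInstance,
    inferInstance, inferInstance, p'', y'', inferInstance, inferInstance, hyp', ?_, ?_, ?_, ?_, ?_⟩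
  · haveI : Algebra.Etale R' R'' := Algebra.Etale.of_isLocalizationAway g
    haveI : Algebra.Etale R R'' := Algebra.Etale.comp R R' R''
    refine ⟨inferInstance, bijective_residue_of_hom p p'' g₁ ?_ rfl⟩
    rw [IsScalarTower.algebraMap_eq R R' R'', ← RingHom.comp_assoc, IsLocalization.Away.lift_comp, hg₀]
  · haveI : Algebra.Etale D E := Algebra.Etale.of_equiv
      (show D ⊗[R] R' ≃ₐ[D] E from AlgEquiv.ofRingEquiv (f := (Algebra.TensorProduct.comm R D R').toRingEquiv) fun _ => rfl)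
    haveI : Algebra.Etale E D' := Algebra.Etale.of_isLocalizationAway d₀
    haveI : Algebra.Etale D D' := Algebra.Etale.comp D E D'
    refine ⟨inferInstance, bijective_residue_of_hom y y'' v₁ ?_ rfl⟩
    rw [IsScalarTower.algebraMap_eq D E D', ← RingHom.comp_assoc, IsLocalization.Away.lift_comp]
    ext a
    show v ((1 : R') ⊗ₜ a) = _
    refine (Algebra.TensorProduct.lift_tmul _ _ _ _ _).trans ?_
    rw [map_one, one_mul]
    rfl
  · exact smoothRelDim_of_localization g d₀ n (smoothRelDim_baseChange R' D n hsm)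
  rotate_left
  · exact isOpenPiece_away g d₀ d rfl
  · -- the fibres
    have halg : ∀ (L : Type u) [Field L] [IsAlgClosed L] [Algebra R'' L], IsDomain (L ⊗[R''] D') := by
      intro L _ _ _
      letI : Algebra R' L := ((algebraMap R'' L).comp (algebraMap R' R'')).toAlgebra
      haveI : IsScalarTower R' R'' L := IsScalarTower.of_algebraMap_eq fun _ => rfl
      have hgL : IsUnit (algebraMap R' L g) := (IsLocalization.Away.algebraMap_isUnit (S := R'') g).map (algebraMap R'' L)
      obtain ⟨x₀, hx₀d, hx₀⟩ := hgIm (show (⟨RingHom.ker (algebraMap R' L), RingHom.ker_isPrime _⟩ : PrimeSpectrum R') ∈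
          (PrimeSpectrum.basicOpen g : Set _) from fun h => hgL.ne_zero (RingHom.mem_ker.1 h))
      have hx₀g : algebraMap R' E g ∉ x₀.asIdeal := fun h =>
        hgL.ne_zero (RingHom.mem_ker.1 ((congrArg PrimeSpectrum.asIdeal hx₀).le h))
      obtain ⟨z, hz⟩ := exists_point_over L x₀ (congrArg PrimeSpectrum.asIdeal hx₀) d₀
        fun h => (x₀.2.mem_or_mem h).elim hx₀d hx₀g
      have hmemW : ∀ w : PrimeSpectrum (L ⊗[R'] E), (1 : L) ⊗ₜ[R'] d₀ ∉ w.asIdeal → pr L w ∈ W := fun w hw =>
        hdW fun h => hw ((pr L w).asIdeal.mul_mem_right _ h :)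
      haveI := isDomain_away_of_component L (L ⊗[R'] E) ((1 : L) ⊗ₜ[R'] d₀) z hz
        fun w hw => hW L z w (hmemW z hz) (hmemW w hw)
      exact isDomain_tensor_of_localization g d₀
    refine geomIntegralFibres_of_isDomain fun K _ _ => ?_
    -- the fibre over `K` is a domain, being so over an algebraic closure
    let Kb := AlgebraicClosure K
    haveI := halg Kb
    haveI : IsDomain (Kb ⊗[K] (K ⊗[R''] D')) :=
      Function.Injective.isDomain (Algebra.TensorProduct.cancelBaseChange R'' K K Kb D').toRingHom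
        (Algebra.TensorProduct.cancelBaseChange R'' K K Kb D').injective
    exact Function.Injective.isDomain
      (Algebra.TensorProduct.includeRight : K ⊗[R''] D' →ₐ[K] Kb ⊗[K] (K ⊗[R''] D')).toRingHom
      (Algebra.TensorProduct.includeRight_injective (algebraMap K Kb).injective)

/-- An open piece of a base change injects in the base change of an open piece. -/
theorem isDomain_away_retract {R D k L B : Type u} [CommRing R] [CommRing D] [CommRing k] [CommRing L] [CommRing B]
    [Algebra R D] [Algebra R k] [Algebra R L] [Algebra k L] [IsScalarTower R k L] [Algebra k B] (d : D) (j : D →+* B)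
    (hj : ∀ r : R, j (algebraMap R D r) = algebraMap k B (algebraMap R k r)) (hjd : IsUnit (j d))
    (b : B →+* Localization.Away ((1 : L) ⊗ₜ[R] d))
    (hbj : ∀ x : D, b (j x) = algebraMap (L ⊗[R] D) (Localization.Away ((1 : L) ⊗ₜ[R] d)) ((1 : L) ⊗ₜ x))
    (hbk : ∀ c : k, b (algebraMap k B c) =
      algebraMap (L ⊗[R] D) (Localization.Away ((1 : L) ⊗ₜ[R] d)) (algebraMap k L c ⊗ₜ 1))
    [IsDomain (L ⊗[k] B)] : IsDomain (Localization.Away ((1 : L) ⊗ₜ[R] d)) := by
  let Fa := Localization.Away ((1 : L) ⊗ₜ[R] d)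
  let a : L →+* Fa := (algebraMap (L ⊗[R] D) Fa).comp Algebra.TensorProduct.includeLeftRingHom
  obtain ⟨χ, hχ⟩ := exists_pushout_lift (k := k) a b fun c => (hbk c).symm
  letI : Algebra R B := ((algebraMap k B).comp (algebraMap R k)).toAlgebra
  haveI : IsScalarTower R k B := IsScalarTower.of_algebraMap_eq fun _ => rfl
  let φ₀ : L ⊗[R] D →ₐ[R] L ⊗[k] B := Algebra.TensorProduct.lift
    ((Algebra.TensorProduct.includeLeft : L →ₐ[k] L ⊗[k] B).restrictScalars R)
    (((Algebra.TensorProduct.includeRight : B →ₐ[k] L ⊗[k] B).restrictScalars R).comp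
      ({ j with commutes' := hj } : D →ₐ[R] B)) fun _ _ => Commute.all _ _
  have h1 : ∀ x : D, φ₀.toRingHom ((1 : L) ⊗ₜ x) = (1 : L) ⊗ₜ[k] j x := fun x => by
    simp [φ₀, ← Algebra.TensorProduct.one_def]
  have h2 : ∀ l : L, φ₀.toRingHom (l ⊗ₜ (1 : D)) = l ⊗ₜ[k] (1 : B) := fun l => by
    simp [φ₀, ← Algebra.TensorProduct.one_def]
  have hu : IsUnit (φ₀.toRingHom ((1 : L) ⊗ₜ[R] d)) := by
    rw [h1]
    exact hjd.map (Algebra.TensorProduct.includeRight : B →ₐ[k] L ⊗[k] B)
  let φ : Fa →+* L ⊗[k] B := IsLocalization.Away.lift _ hu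
  have hid : χ.comp φ = RingHom.id Fa := by
    refine IsLocalization.ringHom_ext (Submonoid.powers ((1 : L) ⊗ₜ[R] d))
      (Algebra.TensorProduct.ringHom_ext (RingHom.ext fun l => ?_) (RingHom.ext fun x => ?_))
    · simp only [RingHom.comp_apply, RingHom.id_apply, Algebra.TensorProduct.includeLeftRingHom_apply]
      rw [IsLocalization.Away.lift_eq, h2, hχ, map_one, mul_one]
      rfl
    · simp only [RingHom.comp_apply, RingHom.id_apply, RingHom.coe_coe, AlgHom.coe_toRingHom, Algebra.TensorProduct.includeRight_apply]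
      rw [show (Algebra.TensorProduct.includeRight : D →ₐ[R] L ⊗[R] D).toRingHom x = (1 : L) ⊗ₜ[R] x from rfl,
        IsLocalization.Away.lift_eq, h1, hχ, map_one, one_mul, hbj]
  exact Function.Injective.isDomain φ (Function.LeftInverse.injective (g := χ) fun t => RingHom.congr_fun hid t)

/-- The geometric fibres of an open piece are domains when the fibre piece stays a domain over every field. -/
theorem isDomain_away_tensor_of_fiber {R D : Type u} [CommRing R] [CommRing D] [Algebra R D] (p : Ideal R) [p.IsPrime]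
    (d : D) (h : ∀ (K : Type u) [Field K] [Algebra p.ResidueField K],
      IsDomain (K ⊗[p.ResidueField] Localization.Away ((1 : p.ResidueField) ⊗ₜ[R] d)))
    (L : Type u) [Field L] [Algebra R L] (hker : RingHom.ker (algebraMap R L) = p) :
    IsDomain (Localization.Away ((1 : L) ⊗ₜ[R] d)) := by
  let k := p.ResidueField
  let F := p.Fiber D
  let F₁ := Localization.Away ((1 : k) ⊗ₜ[R] d)
  let Fa := Localization.Away ((1 : L) ⊗ₜ[R] d)
  let ιL : k →ₐ[R] L := Ideal.ResidueField.liftₐ p (Algebra.ofId R L) hker.ge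
    fun r hr => (isUnit_iff_ne_zero.2 fun h => hr (hker.le (RingHom.mem_ker.2 h)) :)
  letI : Algebra k L := ιL.toRingHom.toAlgebra
  haveI : IsScalarTower R k L := IsScalarTower.of_algebraMap_eq fun r => (ιL.commutes r).symm
  haveI := h L
  let a : L →+* Fa := (algebraMap (L ⊗[R] D) Fa).comp Algebra.TensorProduct.includeLeftRingHom
  let bF : F →+* Fa := (algebraMap (L ⊗[R] D) Fa).comp (Algebra.TensorProduct.map ιL (AlgHom.id R D)).toRingHom
  have hbF0 : ∀ (c : k) (x : D), bF (c ⊗ₜ[R] x) = algebraMap (L ⊗[R] D) Fa (ιL c ⊗ₜ x) := fun c x =>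
    congrArg (algebraMap (L ⊗[R] D) Fa) (Algebra.TensorProduct.map_tmul ιL (AlgHom.id R D) c x)
  have hbu : IsUnit (bF ((1 : k) ⊗ₜ[R] d)) := by
    rw [hbF0, map_one]
    exact IsLocalization.Away.algebraMap_isUnit _
  let b : F₁ →+* Fa := IsLocalization.Away.lift _ hbu
  have hb : ∀ (c : k) (x : D), b (algebraMap F F₁ (c ⊗ₜ[R] x)) = algebraMap (L ⊗[R] D) Fa (ιL c ⊗ₜ x) := fun c x =>
    (IsLocalization.Away.lift_eq _ hbu _).trans (hbF0 c x)
  let j : D →+* F₁ := (algebraMap F F₁).comp (Algebra.TensorProduct.includeRight : D →ₐ[R] F).toRingHom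
  refine isDomain_away_retract (k := k) d j (fun r => ?_) (IsLocalization.Away.algebraMap_isUnit (S := F₁) ((1 : k) ⊗ₜ[R] d)) b
    (fun x => ?_) (fun c => ?_)
  · show algebraMap F F₁ ((Algebra.TensorProduct.includeRight : D →ₐ[R] F) (algebraMap R D r)) = _
    rw [AlgHom.commutes, IsScalarTower.algebraMap_apply R k F, ← IsScalarTower.algebraMap_apply k F F₁]
  · refine (hb 1 x).trans ?_
    rw [map_one]
  · rw [IsScalarTower.algebraMap_apply k F F₁]
    exact hb c 1

/-- An open piece of an open piece. -/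
theorem isOpenPiece_comp {R R₀ R' D D₁ D' : Type u} [CommRing R] [CommRing R₀] [CommRing R'] [CommRing D] [CommRing D₁]
    [CommRing D'] [Algebra R R₀] [Algebra R₀ R'] [Algebra R R'] [IsScalarTower R R₀ R'] [Algebra R D] [Algebra D D₁]
    [Algebra R D₁] [IsScalarTower R D D₁] [Algebra R₀ D₁] [IsScalarTower R R₀ D₁] [Algebra D₁ D'] [Algebra D D']
    [IsScalarTower D D₁ D'] [Algebra R' D'] [Algebra R₀ D'] [Algebra R D'] [IsScalarTower R R' D'] [IsScalarTower R D D']
    [IsScalarTower R₀ R' D'] [IsScalarTower R₀ D₁ D'] (g : R) [IsLocalization.Away g R₀] (d₀ : D)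
    [IsLocalization.Away d₀ D₁] (h : IsOpenPiece R₀ R' D₁ D') : IsOpenPiece R R' D D' := by
  obtain ⟨e, he, hext, hepi⟩ := h
  let κ : R' ⊗[R] D →ₐ[R] R' ⊗[R₀] D₁ := Algebra.TensorProduct.lift
    ((Algebra.TensorProduct.includeLeft : R' →ₐ[R₀] R' ⊗[R₀] D₁).restrictScalars R)
    (((Algebra.TensorProduct.includeRight : D₁ →ₐ[R₀] R' ⊗[R₀] D₁).restrictScalars R).comp (IsScalarTower.toAlgHom R D D₁))
    fun _ _ => Commute.all _ _
  have hκl : ∀ r : R', κ (r ⊗ₜ (1 : D)) = r ⊗ₜ[R₀] (1 : D₁) := fun r => by simp [κ, ← Algebra.TensorProduct.one_def]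
  have hκr : ∀ x : D, κ ((1 : R') ⊗ₜ x) = (1 : R') ⊗ₜ[R₀] algebraMap D D₁ x := fun x => by
    simp [κ, ← Algebra.TensorProduct.one_def]
  have hκ : (pieceHom R R' D D').toRingHom = (pieceHom R₀ R' D₁ D').toRingHom.comp κ.toRingHom := by
    refine Algebra.TensorProduct.ringHom_ext (RingHom.ext fun r => ?_) (RingHom.ext fun x => ?_)
    · show pieceHom R R' D D' (r ⊗ₜ (1 : D)) = pieceHom R₀ R' D₁ D' (κ (r ⊗ₜ (1 : D)))
      rw [hκl]; simp [pieceHom]
    · show pieceHom R R' D D' ((1 : R') ⊗ₜ x) = pieceHom R₀ R' D₁ D' (κ ((1 : R') ⊗ₜ x))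
      rw [hκr]; simp [pieceHom, ← IsScalarTower.algebraMap_apply D D₁ D']
  -- numerators
  have hnum : ∀ z : R' ⊗[R₀] D₁, ∃ (k : ℕ) (w : R' ⊗[R] D), z * κ ((1 : R') ⊗ₜ d₀) ^ k = κ w := fun z => by
    induction z using TensorProduct.induction_on with
    | zero => exact ⟨0, 0, by simp⟩
    | tmul r z =>
      obtain ⟨⟨b, ⟨_, k, rfl⟩⟩, hb⟩ := IsLocalization.surj (Submonoid.powers d₀) z
      refine ⟨k, r ⊗ₜ b, ?_⟩
      rw [hκr, Algebra.TensorProduct.tmul_pow, one_pow, Algebra.TensorProduct.tmul_mul_tmul, mul_one, ← map_pow, hb,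
        show r ⊗ₜ[R] b = (r ⊗ₜ[R] (1 : D)) * ((1 : R') ⊗ₜ[R] b) by
          rw [Algebra.TensorProduct.tmul_mul_tmul, mul_one, one_mul],
        map_mul, hκl, hκr, Algebra.TensorProduct.tmul_mul_tmul, mul_one, one_mul]
    | add z₁ z₂ h₁ h₂ =>
      obtain ⟨k₁, w₁, e₁⟩ := h₁
      obtain ⟨k₂, w₂, e₂⟩ := h₂
      refine ⟨k₁ + k₂, w₁ * ((1 : R') ⊗ₜ d₀) ^ k₂ + w₂ * ((1 : R') ⊗ₜ d₀) ^ k₁, ?_⟩
      rw [map_add, map_mul, map_mul, map_pow, map_pow, ← e₁, ← e₂]
      ring
  obtain ⟨k, w, hw⟩ := hnum e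
  refine ⟨w * ((1 : R') ⊗ₜ d₀), ?_, fun Ω _ χ hχ => ?_, fun X _ a b hab => ?_⟩
  rotate_left 2
  · refine hepi X a b (Algebra.TensorProduct.ringHom_ext (RingHom.ext fun r => ?_)
      (IsLocalization.ringHom_ext (Submonoid.powers d₀) (RingHom.ext fun x => ?_)))
    · show a (pieceHom R₀ R' D₁ D' (r ⊗ₜ[R₀] (1 : D₁))) = b (pieceHom R₀ R' D₁ D' (r ⊗ₜ[R₀] (1 : D₁)))
      rw [← hκl]
      rw [hκ] at hab
      exact RingHom.congr_fun hab (r ⊗ₜ[R] (1 : D))
    · show a (pieceHom R₀ R' D₁ D' ((1 : R') ⊗ₜ[R₀] algebraMap D D₁ x)) = b (pieceHom R₀ R' D₁ D' ((1 : R') ⊗ₜ[R₀] algebraMap D D₁ x))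
      rw [← hκr]
      rw [hκ] at hab
      exact RingHom.congr_fun hab ((1 : R') ⊗ₜ[R] x)
  · show IsUnit ((pieceHom R R' D D').toRingHom (w * ((1 : R') ⊗ₜ d₀)))
    rw [hκ]
    show IsUnit (pieceHom R₀ R' D₁ D' (κ (w * ((1 : R') ⊗ₜ d₀))))
    have hd : IsUnit (κ ((1 : R') ⊗ₜ d₀)) := by
      rw [hκr]
      exact (IsLocalization.Away.algebraMap_isUnit (S := D₁) d₀).map
        (Algebra.TensorProduct.includeRight : D₁ →ₐ[R₀] R' ⊗[R₀] D₁)
    rw [map_mul, ← hw, map_mul, map_mul, map_pow]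
    exact (he.mul ((hd.map _).pow k)).mul (hd.map _)
  · rw [map_mul] at hχ
    have hu : IsUnit ((χ.comp (Algebra.TensorProduct.includeRight : D →ₐ[R] R' ⊗[R] D).toRingHom) d₀) :=
      isUnit_iff_ne_zero.2 (right_ne_zero_of_mul hχ)
    let b : D₁ →+* Ω := IsLocalization.Away.lift d₀ hu
    have hb : ∀ x : D, b (algebraMap D D₁ x) = χ ((1 : R') ⊗ₜ x) := fun x => IsLocalization.Away.lift_eq d₀ hu x
    let a : R' →+* Ω := χ.comp Algebra.TensorProduct.includeLeftRingHom
    have hab : ∀ r : R₀, a (algebraMap R₀ R' r) = b (algebraMap R₀ D₁ r) := by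
      refine RingHom.congr_fun (f := a.comp (algebraMap R₀ R')) (g := b.comp (algebraMap R₀ D₁)) ?_
      refine IsLocalization.ringHom_ext (Submonoid.powers g) (RingHom.ext fun r => ?_)
      show χ (algebraMap R₀ R' (algebraMap R R₀ r) ⊗ₜ (1 : D)) = b (algebraMap R₀ D₁ (algebraMap R R₀ r))
      rw [← IsScalarTower.algebraMap_apply, ← IsScalarTower.algebraMap_apply, IsScalarTower.algebraMap_apply R D D₁, hb,
        show (1 : R') ⊗ₜ[R] algebraMap R D r = algebraMap R (R' ⊗[R] D) r from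
          (Algebra.TensorProduct.includeRight : D →ₐ[R] R' ⊗[R] D).commutes r]
      rfl
    obtain ⟨χ₁, hχ₁⟩ := exists_pushout_lift a b hab
    have hfac : χ₁.comp κ.toRingHom = χ := by
      refine Algebra.TensorProduct.ringHom_ext (RingHom.ext fun r => ?_) (RingHom.ext fun x => ?_)
      · show χ₁ (κ (r ⊗ₜ (1 : D))) = χ (r ⊗ₜ (1 : D))
        rw [hκl, hχ₁, map_one, mul_one]; rfl
      · show χ₁ (κ ((1 : R') ⊗ₜ x)) = χ ((1 : R') ⊗ₜ x)
        rw [hκr, hχ₁, map_one, one_mul, hb]
    have hne : χ₁ e ≠ 0 := by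
      intro h0
      refine left_ne_zero_of_mul hχ ?_
      rw [← hfac]
      show χ₁ (κ w) = 0
      rw [← hw, map_mul, h0, zero_mul]
    obtain ⟨χ', hχ'⟩ := hext Ω χ₁ hne
    exact ⟨χ', by rw [hκ, ← RingHom.comp_assoc, hχ', hfac]⟩

/-- A smooth algebra has, at a point with purely transcendental residue field, an étale neighbourhood with
geometrically integral fibres over an étale neighbourhood of the base. -/
theorem exists_geom_nhd {R D : Type u} [CommRing R] [CommRing D] [Algebra R D] (n : ℕ)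
    (hsm : FlatCA.SmoothRelDim n R D) (p : Ideal R) [p.IsPrime] (y : Ideal D) [y.IsPrime] [hyp : y.LiesOver p]
    (hy : FlatCA.PurelyTranscendental p y) :
    ∃ (R' D' : Type u) (_ : CommRing R') (_ : CommRing D') (_ : Algebra R R') (_ : Algebra R' D') (_ : Algebra D D')
      (_ : Algebra R D') (_ : IsScalarTower R R' D') (_ : IsScalarTower R D D')
      (p' : Ideal R') (y' : Ideal D') (_ : p'.IsPrime) (_ : y'.IsPrime) (_ : y'.LiesOver p'),
      FlatCA.IsEtaleNhd R R' p p' ∧ FlatCA.IsEtaleNhd D D' y y' ∧ FlatCA.SmoothRelDim n R' D' ∧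
        FlatCA.GeomIntegralFibres R' D' ∧ IsOpenPiece R R' D D' := by
  haveI := smooth_of_smoothRelDim hsm
  let k := p.ResidueField
  let F := p.Fiber D
  letI : Algebra k y.ResidueField := (Ideal.ResidueField.mapₐ p y (Algebra.ofId R D) hyp.over).toRingHom.toAlgebra
  haveI : IsScalarTower R k y.ResidueField := IsScalarTower.of_algebraMap_eq fun r =>
    ((Ideal.ResidueField.mapₐ p y (Algebra.ofId R D) hyp.over).commutes r).symm
  let ρ : F →ₐ[k] y.ResidueField :=
    Algebra.TensorProduct.lift (Algebra.ofId k y.ResidueField) (IsScalarTower.toAlgHom R D y.ResidueField)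
      fun _ _ => Commute.all _ _
  have hρ1 : ∀ c : D, ρ ((1 : k) ⊗ₜ[R] c) = algebraMap D y.ResidueField c := fun c => by
    show Algebra.TensorProduct.lift _ _ _ ((1 : k) ⊗ₜ[R] c) = _
    rw [Algebra.TensorProduct.lift_tmul, map_one, one_mul]
    rfl
  let x : PrimeSpectrum F := ⟨RingHom.ker ρ.toRingHom, RingHom.ker_isPrime _⟩
  -- shrink into the component of `y`
  haveI : IsNoetherianRing F := Algebra.FiniteType.isNoetherianRing k F
  obtain ⟨ε, hε, hεeq⟩ := PrimeSpectrum.isClopen_iff.1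
    ⟨isClosed_connectedComponent, (GrothLib.LocNoeth.isLocNoeth (AlgebraicGeometry.Spec (CommRingCat.of F))).isOpen_connectedComponent x⟩
  obtain ⟨w, hw, d, hd⟩ := Ideal.Fiber.exists_smul_eq_one_tmul p ε
  have hwu : IsUnit (algebraMap R F w) := by
    rw [IsScalarTower.algebraMap_apply R k F]
    exact (isUnit_iff_ne_zero.2 (Ideal.algebraMap_residueField_eq_zero.not.2 hw)).map _
  have hmem : ∀ z : PrimeSpectrum F, (1 : k) ⊗ₜ[R] d ∉ z.asIdeal ↔ z ∈ connectedComponent x := fun z => by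
    rw [← hd, Algebra.smul_def, Ideal.unit_mul_mem_iff_mem _ hwu, hεeq]
    rfl
  have hxd : (1 : k) ⊗ₜ[R] d ∉ x.asIdeal := (hmem x).2 mem_connectedComponent
  have hyd : d ∉ y := fun h => hxd (show ρ ((1 : k) ⊗ₜ d) = 0 by
    rw [hρ1]; exact Ideal.algebraMap_residueField_eq_zero.2 h)
  -- shrink the base into the image
  have himo : IsOpen (PrimeSpectrum.comap (algebraMap R D) '' (PrimeSpectrum.basicOpen d : Set _)) :=
    PrimeSpectrum.isOpenMap_comap_of_hasGoingDown_of_finitePresentation _ (PrimeSpectrum.basicOpen d).isOpen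
  obtain ⟨_, ⟨g, rfl⟩, hpg, hgIm⟩ := PrimeSpectrum.isTopologicalBasis_basic_opens.exists_subset_of_mem_open
    (a := (⟨p, ‹_›⟩ : PrimeSpectrum R)) ((Set.mem_image _ _ _).2 ⟨⟨y, ‹_›⟩, hyd, PrimeSpectrum.ext hyp.over.symm⟩) himo
  let R₀ := Localization.Away g
  let d₀ : D := d * algebraMap R D g
  let D₁ := Localization.Away d₀
  have hgu : IsUnit (algebraMap R D₁ g) := by
    have h1 : IsUnit (algebraMap D D₁ d₀) := IsLocalization.Away.algebraMap_isUnit d₀
    simp only [d₀, map_mul, ← IsScalarTower.algebraMap_apply] at h1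
    exact isUnit_of_mul_isUnit_right h1
  letI : Algebra R₀ D₁ := (IsLocalization.Away.lift (S := R₀) g hgu).toAlgebra
  haveI : IsScalarTower R R₀ D₁ :=
    IsScalarTower.of_algebraMap_eq fun r => (IsLocalization.Away.lift_eq (S := R₀) g hgu r).symm
  have hsm₀ : FlatCA.SmoothRelDim n R₀ D₁ := smoothRelDim_of_localization g d₀ n hsm
  haveI : Module.FaithfullyFlat R₀ D₁ := by
    haveI := smooth_of_smoothRelDim hsm₀
    refine Module.FaithfullyFlat.of_comap_surjective fun t => ?_
    obtain ⟨x₀, hx₀d, hx₀⟩ := hgIm (show PrimeSpectrum.comap (algebraMap R R₀) t ∈ (PrimeSpectrum.basicOpen g : Set _)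
      from fun h => t.2.ne_top (Ideal.eq_top_of_isUnit_mem _ h (IsLocalization.Away.algebraMap_isUnit g)))
    have : x₀ ∈ Set.range (PrimeSpectrum.comap (algebraMap D D₁)) := by
      rw [PrimeSpectrum.localization_away_comap_range D₁ d₀]
      intro h
      refine (x₀.2.mem_or_mem h).elim hx₀d fun h' => ?_
      have h2 : g ∈ (PrimeSpectrum.comap (algebraMap R R₀) t).asIdeal := hx₀ ▸ h'
      exact t.2.ne_top (Ideal.eq_top_of_isUnit_mem _ h2 (IsLocalization.Away.algebraMap_isUnit g))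
    obtain ⟨x₁, rfl⟩ := this
    refine ⟨x₁, PrimeSpectrum.localization_comap_injective R₀ (Submonoid.powers g) ?_⟩
    rw [← hx₀, ← PrimeSpectrum.comap_comp_apply, ← PrimeSpectrum.comap_comp_apply, ← IsScalarTower.algebraMap_eq,
      ← IsScalarTower.algebraMap_eq]
  have hd₀y : d₀ ∉ y := fun h => (Ideal.IsPrime.mem_or_mem ‹_› h).elim hyd fun h' => hpg (hyp.over.ge h')
  let p₀ : Ideal R₀ := p.map (algebraMap R R₀)
  let y₀ : Ideal D₁ := y.map (algebraMap D D₁)
  have hdp : Disjoint (Submonoid.powers g : Set R) ↑p := (Ideal.disjoint_powers_iff_notMem_of_isPrime _).2 hpg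
  have hdy : Disjoint (Submonoid.powers d₀ : Set D) ↑y := (Ideal.disjoint_powers_iff_notMem_of_isPrime _).2 hd₀y
  haveI : p₀.IsPrime := IsLocalization.isPrime_of_isPrime_disjoint _ _ p ‹_› hdp
  haveI : y₀.IsPrime := IsLocalization.isPrime_of_isPrime_disjoint _ _ y ‹_› hdy
  have hp₀ : p₀.comap (algebraMap R R₀) = p := IsLocalization.under_map_of_isPrime_disjoint _ _ ‹_› hdp
  have hy₀ : y₀.comap (algebraMap D D₁) = y := IsLocalization.under_map_of_isPrime_disjoint _ _ ‹_› hdy
  haveI : y₀.LiesOver p₀ := ⟨by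
    rw [← IsLocalization.map_under (Submonoid.powers g) R₀ (y₀.under R₀)]
    show p.map _ = _
    congr 1
    rw [Ideal.under, Ideal.comap_comap, ← IsScalarTower.algebraMap_eq, IsScalarTower.algebraMap_eq R D D₁,
      ← Ideal.comap_comap, hy₀]
    exact hyp.over⟩
  have hxd₀ : (1 : k) ⊗ₜ[R] d₀ ∉ x.asIdeal := fun h => hd₀y (Ideal.algebraMap_residueField_eq_zero.1
    ((hρ1 d₀).symm.trans (RingHom.mem_ker.1 h)))
  have hmem₀ : ∀ z : PrimeSpectrum F, (1 : k) ⊗ₜ[R] d₀ ∉ z.asIdeal → z ∈ connectedComponent x := fun z hz => by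
    refine (hmem z).1 fun h => hz ?_
    have h0 : (1 : k) ⊗ₜ[R] d₀ = ((1 : k) ⊗ₜ[R] d) * ((1 : k) ⊗ₜ[R] algebraMap R D g) := by
      rw [Algebra.TensorProduct.tmul_mul_tmul, one_mul]
    rw [h0]
    exact z.asIdeal.mul_mem_right _ h
  haveI : IsDomain (Localization.Away ((1 : k) ⊗ₜ[R] d₀)) :=
    isDomain_away_of_component k F _ x hxd₀ fun z hz => hmem₀ z hz
  let F₁ := Localization.Away ((1 : k) ⊗ₜ[R] d₀)
  haveI : Algebra.Smooth F F₁ := Algebra.Smooth.of_isLocalization_Away ((1 : k) ⊗ₜ[R] d₀)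
  haveI : Algebra.Smooth k F₁ := Algebra.Smooth.comp k F F₁
  have hρd : IsUnit (ρ.toRingHom ((1 : k) ⊗ₜ[R] d₀)) := isUnit_iff_ne_zero.2 (by
    show ρ ((1 : k) ⊗ₜ[R] d₀) ≠ 0
    rw [hρ1]; exact Ideal.algebraMap_residueField_eq_zero.not.2 hd₀y)
  let ρ₁ : F₁ →+* y.ResidueField := IsLocalization.Away.lift _ hρd
  let P₁ : Ideal F₁ := RingHom.ker ρ₁
  haveI : P₁.IsPrime := RingHom.ker_isPrime _
  have hgeom : ∀ (K : Type u) [Field K] [Algebra k K], IsDomain (K ⊗[k] F₁) := by
    refine fun K _ _ => isDomain_tensor_of_point k F₁ P₁ (fun α hα => ?_) K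
    let l₀ : P₁.ResidueField →+* y.ResidueField := Ideal.ResidueField.lift P₁ ρ₁ le_rfl
      fun b hb => isUnit_iff_ne_zero.2 fun hb0 => hb (RingHom.mem_ker.2 hb0)
    have hl₀ : ∀ c : k, l₀ (algebraMap k P₁.ResidueField c) = algebraMap k y.ResidueField c := fun c => by
      rw [IsScalarTower.algebraMap_apply k F₁ P₁.ResidueField, Ideal.ResidueField.lift_algebraMap,
        IsScalarTower.algebraMap_apply k F F₁, IsLocalization.Away.lift_eq]
      exact ρ.commutes c
    let l : P₁.ResidueField →ₐ[k] y.ResidueField := { l₀ with commutes' := hl₀ }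
    obtain ⟨ι, b, hb, hbtop⟩ := hy
    obtain ⟨c, hc⟩ := mem_range_of_isAlgebraic b hb.1 hbtop (l α) (hα.isIntegral.isAlgebraic.algHom l)
    exact ⟨c, l.toRingHom.injective ((l.commutes c).trans hc)⟩
  have hgeo : ∀ (L : Type u) [Field L] [Algebra R₀ L], RingHom.ker (algebraMap R₀ L) = p₀ → IsDomain (L ⊗[R₀] D₁) := by
    intro L _ _ hker
    letI : Algebra R L := ((algebraMap R₀ L).comp (algebraMap R R₀)).toAlgebra
    haveI : IsScalarTower R R₀ L := IsScalarTower.of_algebraMap_eq fun _ => rfl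
    haveI := isDomain_away_tensor_of_fiber p d₀ hgeom L (by
      rw [show algebraMap R L = (algebraMap R₀ L).comp (algebraMap R R₀) from rfl, ← RingHom.comap_ker, hker, hp₀])
    exact isDomain_tensor_of_localization g d₀
  obtain ⟨R', D', _, _, _, _, _, _, _, _, p', y', _, _, hy'p', hR', hD', hsm', hint, hpc⟩ :=
    exists_geom_nhd_aux n hsm₀ p₀ y₀ hgeo
  letI : Algebra R R' := ((algebraMap R₀ R').comp (algebraMap R R₀)).toAlgebra
  haveI : IsScalarTower R R₀ R' := IsScalarTower.of_algebraMap_eq fun _ => rfl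
  letI : Algebra D D' := ((algebraMap D₁ D').comp (algebraMap D D₁)).toAlgebra
  haveI : IsScalarTower D D₁ D' := IsScalarTower.of_algebraMap_eq fun _ => rfl
  letI : Algebra R D' := ((algebraMap R₀ D').comp (algebraMap R R₀)).toAlgebra
  haveI : IsScalarTower R R₀ D' := IsScalarTower.of_algebraMap_eq fun _ => rfl
  haveI : IsScalarTower R R' D' := IsScalarTower.of_algebraMap_eq fun r => by
    show algebraMap R₀ D' (algebraMap R R₀ r) = algebraMap R' D' (algebraMap R₀ R' (algebraMap R R₀ r))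
    exact IsScalarTower.algebraMap_apply R₀ R' D' _
  haveI : IsScalarTower R D D' := IsScalarTower.of_algebraMap_eq fun r => by
    show algebraMap R₀ D' (algebraMap R R₀ r) = algebraMap D₁ D' (algebraMap D D₁ (algebraMap R D r))
    rw [← IsScalarTower.algebraMap_apply R D D₁, IsScalarTower.algebraMap_apply R R₀ D₁,
      ← IsScalarTower.algebraMap_apply R₀ D₁ D']
  refine ⟨R', D', inferInstance, inferInstance, inferInstance, inferInstance, inferInstance, inferInstance,
    inferInstance, inferInstance, p', y', inferInstance, inferInstance, hy'p', ?_, ?_, hsm', hint,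
    isOpenPiece_comp (R₀ := R₀) (D₁ := D₁) g d₀ hpc⟩
  · exact isEtaleNhd_of_localization g hp₀ hR'
  · exact isEtaleNhd_of_localization d₀ hy₀ hD'

end GrothLib.RG6.Geom
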